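import Groth.Agent.L05.CohFlat.Root
import Groth.Agent.L05.EulerDiv.Chain
import Groth.Agent.L14.Quot.Scalar
import Groth.Agent.L14.LocHilb.Lift.Obs.Cls
import Groth.Agent.L16.ProperFinite
import Groth.Agent.L00.SubExtendMain
import Mathlib.FieldTheory.Perfect
import Mathlib.RingTheory.Filtration

/-!
Cohomological flatness in degree zero from a separable field of functions on the closed fibre.
-/

set_option autoImplicit false
set_option backward.isDefEq.respectTransparency false
set_option linter.style.haveILetI false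
set_option linter.unusedSectionVars false
universe u

open CategoryTheory CategoryTheory.Limits AlgebraicGeometry TopologicalSpace Opposite
open scoped Polynomial

noncomputable section

namespace Groth.L05.CohFlat

open Groth.L05.FibreDecomp
open Groth.L16.CohLinear (hmap delta overLin exact_hmap_delta hmap_comp)
open Groth.L18.Frame (rs ro ro_ro)
open Groth.L14.Quot (smulMod smulMod_app)

section General

variable {Z : Scheme.{u}}

theorem ext_smul {b c : Γ(Z, ⊤)} : smulMod (Coh.structureModule Z) b ≫ smulMod (Coh.structureModule Z) c =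
    smulMod (Coh.structureModule Z) (c * b) := by
  ext U m
  show (smulMod (Coh.structureModule Z) c).app U ((smulMod (Coh.structureModule Z) b).app U m) = _
  rw [smulMod_app, smulMod_app, smulMod_app, smul_smul]
  congr 1
  exact (map_mul (Z.presheaf.map _).hom c b).symm

variable [IsIntegral Z] (J : Z.IdealSheafData) {b : Γ(Z, ⊤)} (hb : b ≠ 0)
  (hJ : ∀ U : Z.affineOpens, J.ideal U = Ideal.span {ro (le_top : U.1 ≤ ⊤) b})

include hb in
theorem mem_nonZeroDivisors_ro (U : Z.Opens) (hU : Nonempty (U : Scheme.{u})) :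
    ro (le_top : U ≤ ⊤) b ∈ nonZeroDivisors Γ(Z, U) := by
  haveI := hU
  haveI : IsDomain Γ(Z, U) := IsIntegral.component_integral U
  refine mem_nonZeroDivisors_of_ne_zero fun h0 => hb ?_
  obtain ⟨⟨y, hy⟩⟩ := hU
  haveI : Nonempty (⊤ : Z.Opens).toScheme := ⟨⟨y, trivial⟩⟩
  refine germ_injective_of_isIntegral Z y (U := ⊤) trivial ?_
  rw [map_zero, ← TopCat.Presheaf.germ_res_apply Z.presheaf (homOfLE (le_top : U ≤ ⊤)) y hy b]
  exact (congrArg _ h0).trans (map_zero _)

include hb hJ in
theorem isEffCartier_of_span : BlowUp.IsEffCartierIdeal J := fun x => by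
  obtain ⟨_, ⟨W, hW, rfl⟩, hxW, -⟩ :=
    Z.isBasis_affineOpens.exists_subset_of_mem_open (Set.mem_univ x) isOpen_univ
  exact ⟨⟨W, hW⟩, hxW, _, mem_nonZeroDivisors_ro hb W ⟨⟨x, hxW⟩⟩, hJ ⟨W, hW⟩⟩

include hJ in
theorem subschemeι_appTop_eq_zero : J.subschemeι.app ⊤ b = 0 := by
  refine Groth.L21.Extend.eq_of_locally (Coh.structureModule J.subscheme) (J.subschemeι.app ⊤ b) 0 fun y _ => ?_
  obtain ⟨_, ⟨W, hW, rfl⟩, hyW, -⟩ :=
    Z.isBasis_affineOpens.exists_subset_of_mem_open (Set.mem_univ (J.subschemeι y)) isOpen_univ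
  refine ⟨J.subschemeι ⁻¹ᵁ W, le_top, hyW, ?_⟩
  refine Eq.trans ?_ (map_zero _).symm
  show ro (J.subschemeι.preimage_mono (le_top : W ≤ ⊤)) (J.subschemeι.app ⊤ b) = 0
  rw [← Groth.L20.PicThick.app_ro J.subschemeι (le_top : W ≤ ⊤)]
  show J.subschemeι.app (⟨W, hW⟩ : Z.affineOpens).1 _ = 0
  rw [← RingHom.mem_ker, J.ker_subschemeι_app, hJ]
  exact Ideal.mem_span_singleton_self _

include hJ in
theorem smul_toSubscheme : smulMod (Coh.structureModule Z) b ≫ ClSub.toSubscheme J = 0 := by
  ext U m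
  show (ClSub.toSubscheme J).app U ((smulMod (Coh.structureModule Z) b).app U m) = 0
  rw [smulMod_app]
  show J.subschemeι.app U (ro (le_top : U ≤ ⊤) b * (show Γ(Z, U) from m)) = 0
  rw [map_mul, Groth.L20.PicThick.app_ro J.subschemeι (le_top : U ≤ ⊤), subschemeι_appTop_eq_zero J hJ]
  exact (congrArg (· * _) (map_zero _)).trans (zero_mul _)

/-- The sequence of a principal ideal. -/
def seq : ShortComplex Z.Modules :=
  ShortComplex.mk _ _ (smul_toSubscheme J hJ)

include hb in
theorem shortExact_seq : (seq J hJ).ShortExact := by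
  let k : Coh.structureModule Z ⟶ ClSub.idealMod J := kernel.lift _ _ (smul_toSubscheme J hJ)
  have hk : k ≫ ClSub.idealModι J = smulMod (Coh.structureModule Z) b := kernel.lift_ι _ _ _
  haveI : Epi k := Groth.L00.SubExtend.epi_of_affine k fun O hO n => by
    obtain ⟨c, hc⟩ := Ideal.mem_span_singleton'.1 (hJ ⟨O, hO⟩ ▸
      (Groth.L18.IdealModule.mem_ideal_iff J hO _).2 ⟨n, rfl⟩)
    refine ⟨c, (Groth.L18.IdealModule.exact_sections J O).1 ?_⟩
    show (k ≫ ClSub.idealModι J).app O c = _
    rw [hk, smulMod_app]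
    exact (mul_comm _ _).trans hc
  haveI : IsIso k := Groth.L03.InterLen.isIso_of_epi_invertible k
    (Groth.L18.Ample.isInvertible_structureModule Z)
    ((Groth.Agent.L19.IdealInvertible.isEffCartier_iff J).2 (isEffCartier_of_span J hb hJ))
  let e : Groth.L21.RR.idealSeq J ≅ seq J hJ := ShortComplex.isoMk (asIso k).symm (Iso.refl _) (Iso.refl _)
    (by show inv k ≫ smulMod (Coh.structureModule Z) b = ClSub.idealModι J ≫ 𝟙 _
        rw [← hk, IsIso.inv_hom_id_assoc, Category.comp_id])
    (by show 𝟙 _ ≫ ClSub.toSubscheme J = ClSub.toSubscheme J ≫ 𝟙 _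
        rw [Category.comp_id, Category.id_comp])
  exact ShortComplex.shortExact_of_iso e (Groth.L21.RR.shortExact_idealSeq J)

theorem app_of_comp {Y D' D : Scheme.{u}} (f : D' ⟶ D) (ι : D ⟶ Y) (g : D' ⟶ Y) (h : f ≫ ι = g)
    (z : Γ(D, ⊤)) (U : Y.Opens) (w : Γ(Y, U)) (hz : ro (le_top : ι ⁻¹ᵁ U ≤ ⊤) z = ι.app U w) :
    ro (le_top : g ⁻¹ᵁ U ≤ ⊤) (f.appTop z) = g.app U w := by
  subst h
  show _ = f.app _ (ι.app U w)
  rw [← hz, Groth.L20.PicThick.app_ro f (le_top : ι ⁻¹ᵁ U ≤ ⊤)]
  rfl

/-- A map of structure sheaves of subschemes under the quotient maps is restriction. -/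
theorem app_top_of_comp {J J' : Z.IdealSheafData} (h : J ≤ J') (τ : ClSub.quotMod J ⟶ ClSub.quotMod J')
    (hτ : ClSub.toSubscheme J ≫ τ = ClSub.toSubscheme J') (z : Γ(J.subscheme, ⊤)) :
    (show Γ(J'.subscheme, ⊤) from τ.app ⊤ z) = (Scheme.IdealSheafData.inclusion h).appTop z := by
  refine Groth.L21.Extend.eq_of_locally (ClSub.quotMod J') (τ.app ⊤ z)
    ((Scheme.IdealSheafData.inclusion h).appTop z) fun y _ => ?_
  obtain ⟨_, ⟨W, hW, rfl⟩, hyW, -⟩ := Z.isBasis_affineOpens.exists_subset_of_mem_open (Set.mem_univ y) isOpen_univ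
  replace hW : IsAffineOpen W := hW
  refine ⟨W, le_top, hyW, ?_⟩
  obtain ⟨w, hw⟩ := J.subschemeι.app_surjective W hW (ro (le_top : J.subschemeι ⁻¹ᵁ W ≤ ⊤) z)
  have h1 : rs (ClSub.quotMod J') (le_top : W ≤ ⊤) (τ.app ⊤ z) = J'.subschemeι.app W w := by
    refine (congr($(τ.mapPresheaf.naturality (homOfLE (le_top : W ≤ ⊤)).op) z)).symm.trans ?_
    show τ.app W (rs (ClSub.quotMod J) (le_top : W ≤ ⊤) z) = _
    rw [show rs (ClSub.quotMod J) (le_top : W ≤ ⊤) z = (ClSub.toSubscheme J).app W w from hw.symm]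
    exact congr(($hτ).app W w)
  refine h1.trans ?_
  exact (app_of_comp _ _ _ (Scheme.IdealSheafData.inclusion_subschemeι h) z W w hw.symm).symm

end General

variable {R : Type u} [CommRing R] [IsDomain R] [IsDiscreteValuationRing R]
  {X : Over (Spec (CommRingCat.of R))} [IsProper X.hom] [IsLocallyNoetherian X.left] [Flat X.hom]
  [IsIntegral X.left]

theorem ideal_pow_specialFibreIdeal {ϖ : R} (hϖ : Irreducible ϖ) (n : ℕ) (U : X.left.affineOpens) :
    (Models.specialFibreIdeal R X ^ n).ideal U =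
      Ideal.span {ro (le_top : U.1 ≤ ⊤) (show Γ(X.left, ⊤) from Coh.toGlobal X.hom (ϖ ^ n))} := by
  rw [Scheme.IdealSheafData.ideal_pow, Pi.pow_apply, ideal_specialFibreIdeal (X := X) U, hϖ.maximalIdeal_eq,
    Ideal.map_span, Set.image_singleton, Ideal.span_singleton_pow, ← map_pow]
  rfl

theorem toGlobal_ne_zero {a : R} (ha : a ≠ 0) : (show Γ(X.left, ⊤) from Coh.toGlobal X.hom a) ≠ 0 := fun h0 => by
  refine stalkHom_ne_zero (X := X) (genericPoint X.left) ha ?_
  show X.left.presheaf.germ ⊤ _ trivial (Coh.toGlobal X.hom a) = 0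
  rw [show Coh.toGlobal X.hom a = 0 from h0]
  exact map_zero _

theorem specialFibre_pow_le {ϖ : R} (hϖ : Irreducible ϖ) (n : ℕ) :
    Models.specialFibreIdeal R X ^ (n + 1) ≤ Models.specialFibreIdeal R X := fun U => by
  have h1 := ideal_pow_specialFibreIdeal (X := X) hϖ 1 U
  rw [pow_one (Models.specialFibreIdeal R X), pow_one ϖ] at h1
  rw [ideal_pow_specialFibreIdeal hϖ, h1, Ideal.span_singleton_le_span_singleton]
  refine ⟨ro (le_top : U.1 ≤ ⊤) (show Γ(X.left, ⊤) from Coh.toGlobal X.hom (ϖ ^ n)), ?_⟩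
  rw [show ϖ ^ (n + 1) = ϖ * ϖ ^ n by rw [pow_succ']]
  exact (congrArg (ro (le_top : U.1 ≤ ⊤)) (map_mul (Coh.toGlobal X.hom) ϖ (ϖ ^ n))).trans (map_mul _ _ _)

/-- A function on the closed fibre which lifts to every thickening extends. -/
theorem mem_range_of_lifts {ϖ : R} (hϖ : Irreducible ϖ)
    (y : Coh.HH X.left (ClSub.quotMod (Models.specialFibreIdeal R X)) 0)
    (hlift : ∀ n : ℕ, ∃ G : Γ((Models.specialFibreIdeal R X ^ (n + 1)).subscheme, ⊤),
      (Scheme.IdealSheafData.inclusion (specialFibre_pow_le hϖ n)).appTop G =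
        Groth.L21.RR.e0 (ClSub.quotMod (Models.specialFibreIdeal R X)) y) :
    y ∈ Set.range (hmap (ClSub.toSubscheme (Models.specialFibreIdeal R X)) 0) := by
  classical
  letI : X.left.Over (Spec (CommRingCat.of R)) := ⟨X.hom⟩
  haveI : IsProper (X.left ↘ Spec (CommRingCat.of R)) := ‹IsProper X.hom›
  let I := Models.specialFibreIdeal R X
  let b : ℕ → Γ(X.left, ⊤) := fun n => Coh.toGlobal X.hom (ϖ ^ n)
  have hb : ∀ n, b n ≠ 0 := fun n => toGlobal_ne_zero (pow_ne_zero n hϖ.ne_zero)
  have hI : ∀ U : X.left.affineOpens, I.ideal U = Ideal.span {ro (le_top : U.1 ≤ ⊤) (b 1)} := fun U => by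
    have h := ideal_pow_specialFibreIdeal (X := X) hϖ 1 U
    rwa [pow_one (Models.specialFibreIdeal R X)] at h
  have hS := shortExact_seq I (hb 1) hI
  -- the obstruction is infinitely divisible
  have hdiv : ∀ n : ℕ, ∃ z : Coh.HH X.left (Coh.structureModule X.left) 1,
      delta hS 0 y = (ϖ ^ n) • z := fun n => by
    let J := I ^ (n + 1)
    have hJ : ∀ U : X.left.affineOpens, J.ideal U = Ideal.span {ro (le_top : U.1 ≤ ⊤) (b (n + 1))} :=
      fun U => ideal_pow_specialFibreIdeal (X := X) hϖ (n + 1) U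
    have hT := shortExact_seq J (hb (n + 1)) hJ
    have hle : J ≤ I := fun U => by
      rw [hJ, hI, Ideal.span_singleton_le_span_singleton]
      refine ⟨ro (le_top : U.1 ≤ ⊤) (b n), ?_⟩
      simp only [b]
      rw [show ϖ ^ (n + 1) = ϖ ^ 1 * ϖ ^ n by rw [← pow_add, Nat.add_comm], map_mul]
      exact map_mul _ _ _
    have hbmul : b (n + 1) = b 1 * b n := by
      simp only [b]
      rw [show ϖ ^ (n + 1) = ϖ ^ 1 * ϖ ^ n by rw [← pow_add, Nat.add_comm], map_mul]
    haveI : Epi (seq J hJ).g := hT.epi_g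
    have hz : (seq J hJ).f ≫ (seq I hI).g = 0 := by
      show smulMod (Coh.structureModule X.left) (b (n + 1)) ≫ ClSub.toSubscheme I = 0
      rw [hbmul, ← ext_smul, Category.assoc, smul_toSubscheme I hI, comp_zero]
    let τ : ClSub.quotMod J ⟶ ClSub.quotMod I := hT.exact.desc (seq I hI).g hz
    have hτ : ClSub.toSubscheme J ≫ τ = ClSub.toSubscheme I := hT.exact.g_desc _ hz
    let φ : seq J hJ ⟶ seq I hI :=
      { τ₁ := smulMod _ (b n), τ₂ := 𝟙 _, τ₃ := τ
        comm₁₂ := by
          show smulMod (Coh.structureModule X.left) (b n) ≫ smulMod (Coh.structureModule X.left) (b 1) =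
            smulMod (Coh.structureModule X.left) (b (n + 1)) ≫ 𝟙 _
          rw [ext_smul, Category.comp_id, hbmul]
        comm₂₃ := by
          show 𝟙 _ ≫ ClSub.toSubscheme I = ClSub.toSubscheme J ≫ τ
          rw [Category.id_comp, hτ] }
    obtain ⟨G, hG⟩ := hlift n
    let w : Coh.HH X.left (ClSub.quotMod J) 0 := (Groth.L21.RR.e0 (ClSub.quotMod J)).symm G
    have hy : hmap φ.τ₃ 0 w = y := by
      refine (Groth.L21.RR.e0 (ClSub.quotMod I)).injective ?_
      refine (CategoryTheory.Sheaf.H.equiv₀_naturality _ (Groth.L16.CohLinear.tm τ) w).symm.trans ?_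
      refine Eq.trans ?_ hG
      refine Eq.trans (congrArg (fun t => τ.app ⊤ t) ((Groth.L21.RR.e0 (ClSub.quotMod J)).apply_symm_apply G)) ?_
      exact app_top_of_comp hle τ hτ G
    refine ⟨delta hT 0 w, ?_⟩
    refine ((congrArg (delta hS 0) hy).symm.trans (Groth.L14.LocHilbLift.delta_natural hT hS φ 0 w)).trans ?_
    rfl
  haveI : Module.Finite R (Coh.HH X.left (Coh.structureModule X.left) 1) :=
    Groth.L16.ProperFinite.finite_HH R (Groth.L16.CohClosedPush.isCoh_structure (X := X.left)) 1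
  have hzero : delta hS 0 y = 0 := by
    have hmem : delta hS 0 y ∈ ⨅ n : ℕ, IsLocalRing.maximalIdeal R ^ n •
        (⊤ : Submodule R (Coh.HH X.left (Coh.structureModule X.left) 1)) := by
      rw [Submodule.mem_iInf]
      intro n
      obtain ⟨z, hz⟩ := hdiv n
      rw [hz]
      have hmϖ : ϖ ∈ IsLocalRing.maximalIdeal R := hϖ.maximalIdeal_eq ▸ Ideal.mem_span_singleton_self ϖ
      exact Submodule.smul_mem_smul (Ideal.pow_mem_pow hmϖ n) trivial
    rw [Ideal.iInf_pow_smul_eq_bot_of_isLocalRing _ (IsLocalRing.maximalIdeal.isMaximal R).ne_top] at hmem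
    exact hmem
  exact (exact_hmap_delta hS 0 y).1 hzero

/-- A simple root of a polynomial over the base on the closed fibre extends. -/
theorem mem_range_of_simple_root {ϖ : R} (hϖ : Irreducible ϖ)
    (y : Coh.HH X.left (ClSub.quotMod (Models.specialFibreIdeal R X)) 0) (P : R[X])
    (hroot : P.eval₂ (Coh.toGlobal ((Models.specialFibreIdeal R X).subschemeι ≫ X.hom))
      (Groth.L21.RR.e0 (ClSub.quotMod (Models.specialFibreIdeal R X)) y) = 0)
    (hder : IsUnit ((Polynomial.derivative P).eval₂ (Coh.toGlobal ((Models.specialFibreIdeal R X).subschemeι ≫ X.hom))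
      (show Γ((Models.specialFibreIdeal R X).subscheme, ⊤) from
        Groth.L21.RR.e0 (ClSub.quotMod (Models.specialFibreIdeal R X)) y))) :
    y ∈ Set.range (hmap (ClSub.toSubscheme (Models.specialFibreIdeal R X)) 0) := by
  refine mem_range_of_lifts hϖ y fun n => ?_
  let I := Models.specialFibreIdeal R X
  let J := I ^ (n + 1)
  have hle : J ≤ I := specialFibre_pow_le hϖ n
  let g : R →+* Γ(I.subscheme, ⊤) := Coh.toGlobal (I.subschemeι ≫ X.hom)
  have hthick : MoreMor.IsThickening (Scheme.IdealSheafData.inclusion hle) := by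
    have hfac := Scheme.IdealSheafData.inclusion_subschemeι hle
    haveI : IsClosedImmersion (Scheme.IdealSheafData.inclusion hle ≫ J.subschemeι) := hfac.symm ▸ inferInstance
    refine ⟨IsClosedImmersion.of_comp _ J.subschemeι, ⟨fun d => ?_⟩⟩
    have hd : J.subschemeι d ∈ (I.support : Set X.left) := by
      have h : J.subschemeι d ∈ (J.support : Set X.left) := J.range_subschemeι ▸ ⟨d, rfl⟩
      rwa [show J.support = I.support from I.support_pow (n + 1) n.succ_ne_zero] at h
    rw [← I.range_subschemeι] at hd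
    obtain ⟨c, hc⟩ := hd
    refine ⟨c, J.subschemeι.isClosedEmbedding.injective ?_⟩
    rw [← Scheme.Hom.comp_apply, hfac, hc]
  let φJ : R →+* Γ(J.subscheme, ⊤) := Coh.toGlobal (J.subschemeι ≫ X.hom)
  have hgJ : (Scheme.IdealSheafData.inclusion hle).appTop.hom.comp φJ = g := by
    refine RingHom.ext fun r => ?_
    show Coh.toGlobal (Scheme.IdealSheafData.inclusion hle ≫ J.subschemeι ≫ X.hom) r = g r
    rw [← Category.assoc, Scheme.IdealSheafData.inclusion_subschemeι]
    rfl
  exact exists_root (Scheme.IdealSheafData.inclusion hle) hthick φJ P _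
    (by rw [hgJ]; exact hroot) (by rw [hgJ]; exact hder)

/-- If the functions on the closed fibre form a field and the residue field is perfect, they all extend. -/
theorem surjective_restrict [PerfectField (IsLocalRing.ResidueField R)]
    (hF : IsField Γ((Models.specialFibreIdeal R X).subscheme, ⊤)) :
    Function.Surjective (hmap (ClSub.toSubscheme (Models.specialFibreIdeal R X)) 0) := by
  classical
  letI : X.left.Over (Spec (CommRingCat.of R)) := ⟨X.hom⟩
  haveI : IsProper (X.left ↘ Spec (CommRingCat.of R)) := ‹IsProper X.hom›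
  obtain ⟨ϖ, hϖ⟩ := IsDiscreteValuationRing.exists_irreducible R
  let k := IsLocalRing.ResidueField R
  let I := Models.specialFibreIdeal R X
  let b : ℕ → Γ(X.left, ⊤) := fun n => Coh.toGlobal X.hom (ϖ ^ n)
  have hb : ∀ n, b n ≠ 0 := fun n => toGlobal_ne_zero (pow_ne_zero n hϖ.ne_zero)
  have hI : ∀ U : X.left.affineOpens, I.ideal U = Ideal.span {ro (le_top : U.1 ≤ ⊤) (b 1)} := fun U => by
    have h := ideal_pow_specialFibreIdeal (X := X) hϖ 1 U
    rwa [pow_one (Models.specialFibreIdeal R X)] at h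
  have hS := shortExact_seq I (hb 1) hI
  -- scalars on the closed fibre
  let g : R →+* Γ(I.subscheme, ⊤) := Coh.toGlobal (I.subschemeι ≫ X.hom)
  have hgϖ : g ϖ = 0 := by
    have h := subschemeι_appTop_eq_zero I hI
    simp only [b, pow_one] at h
    exact h
  letI : Field Γ(I.subscheme, ⊤) := hF.toField
  letI : Algebra R Γ(I.subscheme, ⊤) := g.toAlgebra
  let gk : k →+* Γ(I.subscheme, ⊤) := Ideal.Quotient.lift (IsLocalRing.maximalIdeal R) g fun r hr => by
    rw [hϖ.maximalIdeal_eq, Ideal.mem_span_singleton'] at hr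
    obtain ⟨c, rfl⟩ := hr
    rw [map_mul, hgϖ, mul_zero]
  letI : Algebra k Γ(I.subscheme, ⊤) := gk.toAlgebra
  haveI : IsScalarTower R k Γ(I.subscheme, ⊤) := IsScalarTower.of_algebraMap_eq fun r => rfl
  haveI : Module.Finite R Γ(I.subscheme, ⊤) := Groth.L05.EulerDiv.finite_Γ_subscheme (X := X) I
  haveI : Module.Finite k Γ(I.subscheme, ⊤) := Module.Finite.of_restrictScalars_finite R k _
  intro y
  let a : Γ(I.subscheme, ⊤) := Groth.L21.RR.e0 (ClSub.quotMod I) y
  obtain ⟨P, hPm⟩ := Polynomial.map_surjective (IsLocalRing.residue R) IsLocalRing.residue_surjective (minpoly k a)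
  have heval : ∀ Q : R[X], Q.eval₂ g a = Polynomial.aeval a (Q.map (IsLocalRing.residue R)) := fun Q => by
    rw [Polynomial.aeval_def, Polynomial.eval₂_map]
    congr 1
  have hroot : P.eval₂ g a = 0 := by rw [heval, hPm, minpoly.aeval]
  have hint : _root_.IsIntegral k a := Algebra.IsIntegral.isIntegral a
  have hder : IsUnit ((Polynomial.derivative P).eval₂ g a) := by
    refine Ne.isUnit ?_
    rw [heval, ← Polynomial.derivative_map, hPm]
    exact (PerfectField.separable_of_irreducible (minpoly.irreducible hint)).aeval_derivative_ne_zero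
      (minpoly.aeval k a)
  exact mem_range_of_simple_root hϖ y P hroot hder

end Groth.L05.CohFlat
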