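import Groth.Agent.L20.PicThick
import Mathlib.Algebra.Polynomial.Eval.Defs
import Mathlib.Algebra.Polynomial.Derivative

/-!
Simple roots of a polynomial lift along thickenings.
-/

set_option autoImplicit false
set_option linter.style.haveILetI false
set_option backward.isDefEq.respectTransparency.types false
set_option backward.isDefEq.respectTransparency false

universe u

open CategoryTheory AlgebraicGeometry TopologicalSpace Opposite Polynomial

noncomputable section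

namespace Groth.L05.CohFlat

open Groth.L18.Frame (rs ro ro_ro ro_self)
open Groth.L20.PicThick (app_ro isNilpotent_of_app_eq_zero isUnit_of_app)

variable {X X' : Scheme.{u}} (i : X ⟶ X') (hi : MoreMor.IsThickening i) {A : Type u} [CommRing A]
  (φ : A →+* Γ(X', ⊤)) (P : A[X])

/-- The structure map on an open. -/
def loc (V : X'.Opens) : A →+* Γ(X', V) := (X'.presheaf.map (homOfLE (le_top : V ≤ ⊤)).op).hom.comp φ

theorem ro_eval {U V : X'.Opens} (h : V ≤ U) (x : Γ(X', U)) :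
    ro h (P.eval₂ (loc φ U) x) = P.eval₂ (loc φ V) (ro h x) := by
  refine (Polynomial.hom_eval₂ P _ (X'.presheaf.map (homOfLE h).op).hom x).trans ?_
  congr 1
  ext a
  exact ro_ro _ _ _

variable (v : Γ(X, ⊤)) (hv : P.eval₂ (i.appTop.hom.comp φ) v = 0)
  (hv' : IsUnit ((derivative P).eval₂ (i.appTop.hom.comp φ) v))

include hi hv hv' in
theorem existsUnique_root {V : X'.Opens} (hV : IsAffineOpen V) :
    ∃! g : Γ(X', V), i.app V g = ro (le_top : i ⁻¹ᵁ V ≤ ⊤) v ∧ P.eval₂ (loc φ V) g = 0 := by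
  haveI := hi.1
  obtain ⟨x, hx⟩ := i.app_surjective V hV (ro (le_top : i ⁻¹ᵁ V ≤ ⊤) v)
  let ρ : Γ(X, ⊤) →+* Γ(X, i ⁻¹ᵁ V) := (X.presheaf.map (homOfLE (le_top : i ⁻¹ᵁ V ≤ ⊤)).op).hom
  have hcomp : (i.app V).hom.comp (loc φ V) = ρ.comp (i.appTop.hom.comp φ) :=
    RingHom.ext fun a => app_ro i (le_top : V ≤ ⊤) (φ a)
  have hev : ∀ (Q : A[X]) (y : Γ(X', V)), i.app V y = ρ v →
      i.app V (Q.eval₂ (loc φ V) y) = ρ (Q.eval₂ (i.appTop.hom.comp φ) v) := fun Q y hy => by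
    refine (Polynomial.hom_eval₂ Q _ (i.app V).hom y).trans ?_
    rw [hcomp]
    refine Eq.trans ?_ (Polynomial.hom_eval₂ Q _ ρ v).symm
    rw [← hy]
  let P' : Γ(X', V)[X] := P.map (loc φ V)
  have hP : ∀ y : Γ(X', V), Polynomial.aeval y P' = P.eval₂ (loc φ V) y := fun y => by
    rw [Polynomial.coe_aeval_eq_eval, Polynomial.eval_map]
  have hP' : Polynomial.aeval x (derivative P') = (derivative P).eval₂ (loc φ V) x := by
    rw [Polynomial.coe_aeval_eq_eval, Polynomial.derivative_map, Polynomial.eval_map]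
  have hrx : IsNilpotent (Polynomial.aeval x P') := by
    rw [hP]
    refine isNilpotent_of_app_eq_zero i hi hV ?_
    rw [hev P x hx, hv, map_zero]
  obtain ⟨g, ⟨hg1, hg2⟩, huniq⟩ := Polynomial.existsUnique_nilpotent_sub_and_aeval_eq_zero (P := P') (x := x) hrx
    (by
      rw [hP']
      refine isUnit_of_app i hi hV ?_
      rw [hev _ x hx]
      exact hv'.map ρ)
  rw [hP] at hg2
  have hu : IsUnit (Polynomial.aeval (ρ v) (derivative (P.map (ρ.comp (i.appTop.hom.comp φ))))) := by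
    rw [Polynomial.coe_aeval_eq_eval, Polynomial.derivative_map, Polynomial.eval_map]
    rw [← Polynomial.hom_eval₂]
    exact hv'.map ρ
  have hr : ∀ y, Polynomial.aeval y (P.map (ρ.comp (i.appTop.hom.comp φ))) =
      P.eval₂ (ρ.comp (i.appTop.hom.comp φ)) y := fun y => by
    rw [Polynomial.coe_aeval_eq_eval, Polynomial.eval_map]
  have hzero : P.eval₂ (ρ.comp (i.appTop.hom.comp φ)) (ρ v) = 0 := by
    rw [← Polynomial.hom_eval₂, hv, map_zero]
  refine ⟨g, ⟨?_, hg2⟩, fun g' hg' => huniq g' ⟨isNilpotent_of_app_eq_zero i hi hV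
    (by rw [map_sub, hg'.1, hx, sub_self]), by rw [hP, hg'.2]⟩⟩
  have hdiff : IsNilpotent (ρ v - i.app V g) := by
    rw [show ρ v = i.app V x from hx.symm, ← map_sub]
    exact hg1.map (i.app V).hom
  refine (Polynomial.existsUnique_nilpotent_sub_and_aeval_eq_zero
    (P := P.map (ρ.comp (i.appTop.hom.comp φ))) (x := ρ v) (by rw [hr, hzero]; exact IsNilpotent.zero) hu).unique
    ⟨hdiff, ?_⟩ ⟨by rw [show ρ v - ro _ v = 0 from sub_self _]; exact IsNilpotent.zero, by rw [hr]; exact hzero⟩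
  rw [hr, ← hcomp]
  refine (Polynomial.hom_eval₂ P _ (i.app V).hom g).symm.trans ?_
  rw [hg2, map_zero]

include hi hv hv' in
/-- A simple root lifts along a thickening. -/
theorem exists_root' : ∃ G : Γ(X', ⊤), i.appTop G = v ∧ P.eval₂ φ G = 0 := by
  choose V hV hyV using fun y : X' => (show ∃ V : X'.Opens, IsAffineOpen V ∧ y ∈ V from by
    obtain ⟨_, ⟨V, hV, rfl⟩, hyV, -⟩ :=
      X'.isBasis_affineOpens.exists_subset_of_mem_open (Set.mem_univ y) isOpen_univ
    exact ⟨V, hV, hyV⟩)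
  choose g hg hg' using fun y : X' => (existsUnique_root i hi φ P v hv hv' (hV y)).exists
  obtain ⟨G₀, hG₀⟩ := Groth.L21.Extend.exists_glue (Coh.structureModule X') V ⊤ (fun _ => le_top)
    (fun y _ => ⟨y, hyV y⟩) g fun a b => by
      show ro (inf_le_left : V a ⊓ V b ≤ V a) (g a) = ro (inf_le_right : V a ⊓ V b ≤ V b) (g b)
      refine Groth.L21.Extend.eq_of_locally (Coh.structureModule X') _ _ fun y hy => ?_
      obtain ⟨_, ⟨W, hW, rfl⟩, hyW, hWO⟩ :=
        X'.isBasis_affineOpens.exists_subset_of_mem_open (show y ∈ V a ⊓ V b from hy) (V a ⊓ V b).2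
      replace hW : IsAffineOpen W := hW
      refine ⟨W, hWO, hyW, ?_⟩
      show ro (hWO : W ≤ V a ⊓ V b) (ro _ (g a)) = ro (hWO : W ≤ V a ⊓ V b) (ro _ (g b))
      rw [ro_ro, ro_ro]
      refine (existsUnique_root i hi φ P v hv hv' hW).unique ⟨?_, ?_⟩ ⟨?_, ?_⟩
      · rw [app_ro, hg, ro_ro]
      · rw [← ro_eval, hg']; exact map_zero _
      · rw [app_ro, hg, ro_ro]
      · rw [← ro_eval, hg']; exact map_zero _
  let G : Γ(X', ⊤) := G₀
  have hG : ∀ y, ro (le_top : V y ≤ ⊤) G = g y := hG₀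
  refine ⟨G, ?_, ?_⟩
  swap
  · let e₀ : Γ(X', ⊤) := P.eval₂ φ G
    show e₀ = 0
    refine Groth.L21.Extend.eq_of_locally (Coh.structureModule X') e₀ (0 : Γ(X', ⊤)) fun y _ => ?_
    obtain ⟨_, ⟨W, hW, rfl⟩, hyW, hWO⟩ :=
      X'.isBasis_affineOpens.exists_subset_of_mem_open (show y ∈ V y from hyV y) (V y).2
    refine ⟨W, le_top, hyW, ?_⟩
    show ro (le_top : W ≤ ⊤) (P.eval₂ φ G) = ro (le_top : W ≤ ⊤) 0
    have h1 : P.eval₂ φ G = P.eval₂ (loc φ ⊤) G := by
      congr 1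
      exact RingHom.ext fun a => (ro_self _ (φ a)).symm
    show ro (le_top : W ≤ ⊤) (P.eval₂ φ G) = ro (le_top : W ≤ ⊤) (0 : Γ(X', ⊤))
    rw [h1, ← ro_ro (le_top : V y ≤ ⊤) (hWO : W ≤ V y), ro_eval, hG y, hg' y]
    exact (map_zero (X'.presheaf.map (homOfLE (hWO : W ≤ V y)).op).hom).trans
      (map_zero (X'.presheaf.map (homOfLE (le_top : W ≤ ⊤)).op).hom).symm
  refine Groth.L21.Extend.eq_of_locally (Coh.structureModule X) (i.app ⊤ G) v fun x _ => ?_
  refine ⟨i ⁻¹ᵁ V (i x), le_top, hyV (i x), ?_⟩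
  show ro (le_top : i ⁻¹ᵁ V (i x) ≤ ⊤) (i.app ⊤ G) = ro (le_top : i ⁻¹ᵁ V (i x) ≤ ⊤) v
  rw [← hg (i x), ← hG, app_ro i (le_top : V (i x) ≤ ⊤)]
  rfl

include hi hv hv' in
/-- A simple root lifts along a thickening. -/
theorem exists_root : ∃ G : Γ(X', ⊤), i.appTop G = v :=
  (exists_root' i hi φ P v hv hv').imp fun _ h => h.1

end Groth.L05.CohFlat
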