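import Groth.Agent.L05.CohFlat.Main
import Groth.Agent.L05.PtSeq.DomLocal
import Groth.Agent.L05.PtSeq.Birational
import Groth.Agent.L10.HullFinite
import Groth.Agent.L22.LocalDim
import Groth.Agent.L06.NormalAscent
import Groth.Agent.L01.Serre
import Groth.Agent.L19.NormalSections
import Mathlib.RingTheory.DiscreteValuationRing.TFAE

/-!
# Slopes of functions on the closed fibre of a normal model
-/

set_option autoImplicit false
set_option linter.style.haveILetI false
set_option linter.unusedSectionVars false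
set_option maxHeartbeats 1000000
set_option backward.isDefEq.respectTransparency false
set_option backward.isDefEq.respectTransparency.types false

universe u

open CategoryTheory CategoryTheory.Limits AlgebraicGeometry TopologicalSpace Opposite
open Groth.L18.Frame (ro ro_ro ro_self)
open Groth.L20.PicThick (app_ro)

noncomputable section

namespace Groth.L05.Slope

section DVR

variable {O : Type u} [CommRing O] [IsDomain O] [IsDiscreteValuationRing O]

local notation "𝔪" => IsLocalRing.maximalIdeal O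

theorem not_pow_le (N : ℕ) : ¬ 𝔪 ^ N ≤ 𝔪 ^ (N + 1) := by
  obtain ⟨t, ht⟩ := IsDiscreteValuationRing.exists_irreducible O
  rw [ht.maximalIdeal_eq, Ideal.span_singleton_pow, Ideal.span_singleton_pow, Ideal.span_singleton_le_span_singleton]
  intro h
  exact absurd ((pow_dvd_pow_iff ht.ne_zero ht.not_isUnit).1 h) (by omega)

theorem span_eq_pow {x : O} {w : ℕ} (h1 : x ∈ 𝔪 ^ w) (h2 : x ∉ 𝔪 ^ (w + 1)) : Ideal.span {x} = 𝔪 ^ w := by
  obtain ⟨t, ht⟩ := IsDiscreteValuationRing.exists_irreducible O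
  rw [ht.maximalIdeal_eq, Ideal.span_singleton_pow, Ideal.mem_span_singleton] at h1 h2
  obtain ⟨c, rfl⟩ := h1
  have hc : IsUnit c := by
    by_contra hc
    have h3 : c ∈ IsLocalRing.maximalIdeal O := hc
    rw [ht.maximalIdeal_eq, Ideal.mem_span_singleton] at h3
    exact h2 (by rw [pow_succ]; exact mul_dvd_mul_left _ h3)
  rw [ht.maximalIdeal_eq, Ideal.span_singleton_pow, Ideal.span_singleton_eq_span_singleton]
  exact associated_mul_unit_left _ _ hc

theorem exists_span_eq_pow {x : O} (hx : x ≠ 0) : ∃ w : ℕ, Ideal.span {x} = 𝔪 ^ w := by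
  obtain ⟨t, ht⟩ := IsDiscreteValuationRing.exists_irreducible O
  obtain ⟨n, hn⟩ := IsDiscreteValuationRing.associated_pow_irreducible hx ht
  exact ⟨n, by rw [ht.maximalIdeal_eq, Ideal.span_singleton_pow, Ideal.span_singleton_eq_span_singleton]; exact hn⟩

theorem pow_sub_pow_mem {f f' : O} {w e a q : ℕ} (hw : w ≤ e) (hf : f ∈ 𝔪 ^ w) (hd : f' - f ∈ 𝔪 ^ e)
    (he : 0 < e) (hq : a * e ≤ q * w) (haq : a < q) : f' ^ q - f ^ q ∈ 𝔪 ^ (a * e + 1) := by
  have hf' : f' ∈ 𝔪 ^ w := by simpa using add_mem (Ideal.pow_le_pow_right hw hd) hf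
  rw [← geom_sum₂_mul f' f q, Finset.sum_mul]
  refine Ideal.sum_mem _ fun i hi => ?_
  rw [Finset.mem_range] at hi
  have h := Ideal.mul_mem_mul (Ideal.mul_mem_mul (Ideal.pow_mem_pow hf' i) (Ideal.pow_mem_pow hf (q - 1 - i))) hd
  rw [← pow_mul, ← pow_mul, ← pow_add, ← pow_add] at h
  refine Ideal.pow_le_pow_right ?_ h
  have h1 : w * i + w * (q - 1 - i) = w * (q - 1) := by rw [← mul_add, show i + (q - 1 - i) = q - 1 by omega]
  rw [h1]
  rcases eq_or_lt_of_le hw with rfl | hlt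
  · have h2 : w * (q - 1) + w = w * q := by
      conv_rhs => rw [show q = q - 1 + 1 by omega, mul_add, mul_one]
    rw [h2]
    calc a * w + 1 ≤ a * w + w := by omega
      _ = (a + 1) * w := by rw [add_mul, one_mul]
      _ ≤ q * w := Nat.mul_le_mul_right _ haq
      _ = w * q := mul_comm _ _
  · have h2 : w * (q - 1) + w = q * w := by
      rw [mul_comm q]
      conv_rhs => rw [show q = q - 1 + 1 by omega, mul_add, mul_one]
    omega

end DVR

/-- Sections on a closed subscheme glue along opens of the ambient scheme. -/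
theorem exists_glue {Z X : Scheme.{u}} (ι : Z ⟶ X) {α : Type u} (W : α → X.Opens)
    (hW : ∀ x, ∃ i, x ∈ W i) (s : ∀ i, Γ(Z, ι ⁻¹ᵁ W i))
    (h : ∀ i j (V : X.Opens) (hi : V ≤ W i) (hj : V ≤ W j), IsAffineOpen V →
      ro (ι.preimage_mono hi) (s i) = ro (ι.preimage_mono hj) (s j)) :
    ∃ G : Γ(Z, ⊤), ∀ i, ro (le_top : ι ⁻¹ᵁ W i ≤ ⊤) G = s i := by
  refine ⟨_, (TopCat.Sheaf.existsUnique_gluing' Z.sheaf (fun i => ι ⁻¹ᵁ W i) ⊤ (fun _ => homOfLE le_top)
    (fun z _ => Opens.mem_iSup.mpr ((hW (ι z)).imp fun _ hi => hi)) s fun i j => ?_).choose_spec.1⟩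
  choose V hV hzV hle using fun z : ↥(ι ⁻¹ᵁ W i ⊓ ι ⁻¹ᵁ W j : Z.Opens) =>
    (exists_isAffineOpen_mem_and_subset (x := ι z.1) (U := W i ⊓ W j) z.2)
  refine TopCat.Sheaf.eq_of_locally_eq' Z.sheaf (fun z => ι ⁻¹ᵁ V z) _
    (fun z => homOfLE (ι.preimage_mono (hle z))) (fun z hz => Opens.mem_iSup.mpr ⟨⟨z, hz⟩, hzV ⟨z, hz⟩⟩) _ _
    fun z => ?_
  show ro _ (ro _ (s i)) = ro _ (ro _ (s j))
  rw [ro_ro, ro_ro]
  exact h i j (V z) (fun x hx => (hle z hx).1) (fun x hx => (hle z hx).2) (hV z)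

theorem ext_of_cover {Z X : Scheme.{u}} (ι : Z ⟶ X) {α : Type u} (W : α → X.Opens)
    (hW : ∀ x, ∃ i, x ∈ W i) (G G' : Γ(Z, ⊤))
    (h : ∀ i, ro (le_top : ι ⁻¹ᵁ W i ≤ ⊤) G = ro (le_top : ι ⁻¹ᵁ W i ≤ ⊤) G') : G = G' :=
  TopCat.Sheaf.eq_of_locally_eq' Z.sheaf (fun i => ι ⁻¹ᵁ W i) _ (fun _ => homOfLE le_top)
    (fun z _ => Opens.mem_iSup.mpr ((hW (ι z)).imp fun _ hi => hi)) G G' h

variable {R : Type u} [CommRing R] [IsDomain R] [IsDiscreteValuationRing R]
  {X : Over (Spec (CommRingCat.of R))} [IsProper X.hom] [IsLocallyNoetherian X.left] [Flat X.hom]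
  [IsIntegral X.left]

/-- An element of the base as a function on an open. -/
def cst (U : X.left.Opens) : R →+* Γ(X.left, U) :=
  (X.left.presheaf.map (homOfLE (le_top : U ≤ ⊤)).op).hom.comp (Coh.toGlobal X.hom)

theorem ro_cst {U V : X.left.Opens} (h : V ≤ U) (r : R) : ro h (cst U r) = cst V r := ro_ro _ _ _


variable {ϖ : R} (hϖ : Irreducible ϖ)

include hϖ in
theorem ideal_eq (U : X.left.affineOpens) : (Models.specialFibreIdeal R X).ideal U = Ideal.span {cst U.1 ϖ} := by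
  have h := Groth.L05.CohFlat.ideal_pow_specialFibreIdeal (X := X) hϖ 1 U
  rwa [pow_one (Models.specialFibreIdeal R X), pow_one ϖ] at h

include hϖ in
theorem mem_F_iff {U : X.left.Opens} {x : X.left} (hx : x ∈ U) : x ∈ (Models.specialFibreSet R X) ↔ x ∉ X.left.basicOpen (cst U ϖ) := by
  obtain ⟨W, hW, hxW, hWU⟩ := exists_isAffineOpen_mem_and_subset (x := x) (U := U) hx
  rw [← Groth.L05.FibreDecomp.support_specialFibreIdeal, SetLike.mem_coe,
    Scheme.IdealSheafData.mem_support_iff_of_mem (U := ⟨W, hW⟩) hxW, Scheme.mem_zeroLocus_iff,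
    ideal_eq hϖ ⟨W, hW⟩]
  have hb : X.left.basicOpen (cst W ϖ) = W ⊓ X.left.basicOpen (cst U ϖ) := by
    rw [← ro_cst (fun z hz => hWU hz : W ≤ U)]
    exact Scheme.basicOpen_res _ _ _
  constructor
  · intro h hu
    refine h _ (Ideal.subset_span rfl) ?_
    show x ∈ X.left.basicOpen (cst W ϖ)
    rw [hb]; exact ⟨hxW, hu⟩
  · intro h f hf hu
    obtain ⟨c, rfl⟩ := Ideal.mem_span_singleton'.1 hf
    rw [Scheme.basicOpen_mul, hb] at hu
    exact h hu.2.2

theorem cst_ne_zero (U : X.left.Opens) (hU : Nonempty (U : Scheme.{u})) {r : R} (hr : r ≠ 0) : cst U r ≠ 0 := by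
  haveI := hU
  haveI : IsDomain Γ(X.left, U) := IsIntegral.component_integral U
  exact nonZeroDivisors.ne_zero
    (Groth.L05.CohFlat.mem_nonZeroDivisors_ro (Groth.L05.CohFlat.toGlobal_ne_zero (X := X) hr) U hU)

theorem isUnit_cst (U : X.left.Opens) {r : R} (hr : IsUnit r) : IsUnit (cst U r) := hr.map _

/-- The generic points of the closed fibre. -/
def gens : Set X.left := {η | η ∈ (Models.specialFibreSet R X) ∧ ∀ w ∈ (Models.specialFibreSet R X), w ⤳ η → w = η}

variable (hn : Pi1.IsNormalScheme X.left)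

include hϖ hn in
theorem dvr_stalk {η : X.left} (hη : η ∈ gens (X := X)) :
    ∃ _ : IsDomain (X.left.presheaf.stalk η), IsDiscreteValuationRing (X.left.presheaf.stalk η) := by
  haveI := (hn η).1
  haveI := (hn η).2
  obtain ⟨W, hW, hxW, -⟩ := exists_isAffineOpen_mem_and_subset (x := η) (U := (⊤ : X.left.Opens)) trivial
  haveI : IsNoetherianRing Γ(X.left, W) := IsLocallyNoetherian.component_noetherian ⟨W, hW⟩
  have hd : ringKrullDim (X.left.presheaf.stalk η) ≤ 1 := by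
    refine Groth.L22.LocalDim.dim_le_one_of_minimal_span hW hxW (cst W ϖ) ?_
    have h := Groth.L22.LocalDim.primeIdealOf_mem_minimalPrimes_ideal (D := Models.specialFibreIdeal R X) ⟨W, hW⟩ hxW
      (by rw [Groth.L05.FibreDecomp.support_specialFibreIdeal]; exact hη.1)
      (by rw [Groth.L05.FibreDecomp.support_specialFibreIdeal]; exact hη.2)
    rwa [ideal_eq hϖ ⟨W, hW⟩] at h
  haveI := Groth.L06.NormalAscent.regular_of_normal_dim_le_one (A := X.left.presheaf.stalk η) hd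
  obtain ⟨_, hv⟩ := Groth.L01.Serre.valuationRing_of_regular_dim_le_one (A := X.left.presheaf.stalk η) hd
  haveI := hv
  refine ⟨inferInstance, ?_⟩
  have hnf : ¬ IsField (X.left.presheaf.stalk η) := by
    intro hF
    letI := hF.toField
    have hne : X.left.presheaf.germ W η hxW (cst W ϖ) ≠ 0 := fun h0 =>
      cst_ne_zero W ⟨⟨η, hxW⟩⟩ hϖ.ne_zero (germ_injective_of_isIntegral X.left η hxW (h0.trans (map_zero _).symm))
    exact (mem_F_iff hϖ hxW).1 hη.1 ((X.left.mem_basicOpen _ η hxW).2 hne.isUnit)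
  exact (IsDiscreteValuationRing.TFAE _ hnf).out 1 0 |>.1 hv

include hϖ in
theorem cst_germ_mem {η : X.left} (hη : η ∈ (Models.specialFibreSet R X)) {U : X.left.Opens} (hU : η ∈ U) :
    X.left.presheaf.germ U η hU (cst U ϖ) ∈ IsLocalRing.maximalIdeal (X.left.presheaf.stalk η) := fun hu =>
  (mem_F_iff hϖ hU).1 hη ((X.left.mem_basicOpen _ η hU).2 hu)

theorem germ_cst {η : X.left} {U V : X.left.Opens} (hU : η ∈ U) (hV : η ∈ V) (r : R) :
    X.left.presheaf.germ U η hU (cst U r) = X.left.presheaf.germ V η hV (cst V r) := by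
  rw [← ro_cst (le_top : U ≤ ⊤), ← ro_cst (le_top : V ≤ ⊤)]
  exact (TopCat.Presheaf.germ_res_apply X.left.presheaf _ η hU _).trans
    (TopCat.Presheaf.germ_res_apply X.left.presheaf _ η hV _).symm

include hϖ hn in
/-- Divisibility by a power of the uniformiser is checked at the generic points of the closed fibre. -/
theorem dvd_of_germ {W : X.left.Opens} (hW : IsAffineOpen W) (n : ℕ) (h : Γ(X.left, W))
    (hgen : ∀ η ∈ gens (X := X), ∀ hη : η ∈ W,
      X.left.presheaf.germ W η hη (cst W ϖ ^ n) ∣ X.left.presheaf.germ W η hη h) :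
    cst W ϖ ^ n ∣ h := by
  by_cases hne : Nonempty W
  swap
  · have : W = ⊥ := by
      refine Opens.ext (Set.eq_empty_iff_forall_notMem.2 fun z hz => hne ⟨⟨z, hz⟩⟩)
    subst this
    exact ⟨h, Subsingleton.elim _ _⟩
  haveI := hne
  haveI : Nonempty (W : Scheme.{u}) := hne
  haveI : IsDomain Γ(X.left, W) := IsIntegral.component_integral W
  haveI : IsNoetherianRing Γ(X.left, W) := IsLocallyNoetherian.component_noetherian ⟨W, hW⟩
  haveI := Groth.L19.NormalSec.isIntegrallyClosed_sections (fun x => (hn x).2) W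
  let K := FractionRing Γ(X.left, W)
  let a := algebraMap Γ(X.left, W) K
  let b := cst W ϖ
  have hb0 : b ≠ 0 := cst_ne_zero W ‹_› hϖ.ne_zero
  have hbn : a (b ^ n) ≠ 0 := fun h0 =>
    pow_ne_zero n hb0 (IsFractionRing.injective Γ(X.left, W) K (h0.trans (map_zero _).symm))
  obtain ⟨c, hc⟩ := Groth.L10.Hull.mem_range_of_height_one (C := Γ(X.left, W)) (a h / a (b ^ n)) fun P _ hP => by
    by_cases hbP : b ∈ P
    · let Pp : Spec Γ(X.left, W) := ⟨P, inferInstance⟩
      let η := hW.fromSpec Pp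
      have hηW : η ∈ W := Groth.L22.LocalDim.fromSpec_mem hW Pp
      have hPη : (hW.primeIdealOf ⟨η, hηW⟩).asIdeal = P := by
        rw [Groth.L22.LocalDim.primeIdealOf_fromSpec hW Pp]
      have hiff : ∀ (w : X.left) (hw : w ∈ W), w ∈ (Models.specialFibreSet R X) ↔ b ∈ (hW.primeIdealOf ⟨w, hw⟩).asIdeal := fun w hw => by
        rw [mem_F_iff hϖ hw, Groth.L22.LocalDim.mem_basicOpen_iff hW hw, not_not]
      have hηS : η ∈ gens (X := X) := by
        refine ⟨(hiff η hηW).2 (hPη.symm ▸ hbP), fun w hw hwη => ?_⟩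
        have hwW : w ∈ W := hwη.mem_open W.2 hηW
        have hle := Groth.L22.LocalDim.le_of_specializes hW hwW hηW hwη
        rw [hPη] at hle
        rcases eq_or_lt_of_le hle with heq | hlt
        · rw [← Groth.L22.LocalDim.fromSpec_prime hW hwW]
          exact congrArg hW.fromSpec (PrimeSpectrum.ext heq)
        · exfalso
          have h1 := Ideal.height_add_one_le_of_lt_of_isPrime hlt
          rw [hP] at h1
          have h2 : (hW.primeIdealOf ⟨w, hwW⟩).asIdeal.height = 0 := by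
            by_contra h3
            exact absurd ((add_le_add_left (ENat.one_le_iff_ne_zero.2 h3) 1).trans h1) (by decide)
          rw [Ideal.height_eq_zero_iff_eq_bot] at h2
          have h4 := (hiff w hwW).1 hw
          rw [h2, Ideal.mem_bot] at h4
          exact hb0 h4
      letI := TopCat.Presheaf.algebra_section_stalk X.left.presheaf ⟨η, hηW⟩
      haveI := hW.isLocalization_stalk ⟨η, hηW⟩
      obtain ⟨z, hz⟩ := hgen η hηS hηW
      obtain ⟨⟨r, s⟩, hrs⟩ := IsLocalization.surj (hW.primeIdealOf ⟨η, hηW⟩).asIdeal.primeCompl z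
      have he : algebraMap Γ(X.left, W) (X.left.presheaf.stalk η) ((s : Γ(X.left, W)) * h) =
          algebraMap Γ(X.left, W) (X.left.presheaf.stalk η) (b ^ n * r) := by
        rw [map_mul, map_mul, ← hrs]
        show _ * X.left.presheaf.germ W η hηW h = X.left.presheaf.germ W η hηW (b ^ n) * _
        rw [hz]
        ring
      obtain ⟨t, ht⟩ := (IsLocalization.eq_iff_exists (hW.primeIdealOf ⟨η, hηW⟩).asIdeal.primeCompl _).1 he
      refine ⟨(t : Γ(X.left, W)) * s, fun hmem => ?_, (t : Γ(X.left, W)) * r, ?_⟩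
      · rw [← hPη] at hmem
        exact ((Ideal.IsPrime.mem_or_mem inferInstance hmem).elim t.2 s.2)
      · show a ((t : Γ(X.left, W)) * r) = a ((t : Γ(X.left, W)) * s) * (a h / a (b ^ n))
        rw [← mul_div_assoc, eq_div_iff hbn, ← map_mul, ← map_mul]
        exact congrArg a (by rw [mul_assoc, mul_comm r, ← ht, mul_assoc])
    · exact ⟨b ^ n, fun hmem => hbP (Ideal.IsPrime.mem_of_pow_mem inferInstance n hmem), h, by
        show a h = a (b ^ n) * (a h / a (b ^ n))
        rw [mul_div_cancel₀ _ hbn]⟩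
  refine ⟨c, IsFractionRing.injective Γ(X.left, W) K ?_⟩
  show a h = a (b ^ n * c)
  rw [map_mul, hc, mul_div_cancel₀ _ hbn]

variable (y : Γ((Models.specialFibreIdeal R X).subscheme, ⊤))

/-- A local lift of a function on the closed fibre. -/
def Lift (U : X.left.Opens) (f : Γ(X.left, U)) : Prop :=
  (Models.specialFibreIdeal R X).subschemeι.app U f = ro (le_top : (Models.specialFibreIdeal R X).subschemeι ⁻¹ᵁ U ≤ ⊤) y

theorem Lift.res {U V : X.left.Opens} (hVU : V ≤ U) {f : Γ(X.left, U)} (hf : Lift y U f) :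
    Lift y V (ro hVU f) := by
  unfold Lift at hf ⊢
  rw [app_ro, hf, ro_ro]

theorem exists_lift {U : X.left.Opens} (hU : IsAffineOpen U) : ∃ f, Lift y U f :=
  (Models.specialFibreIdeal R X).subschemeι.app_surjective U hU (ro (le_top : (Models.specialFibreIdeal R X).subschemeι ⁻¹ᵁ U ≤ ⊤) y)

include hϖ in
theorem app_eq_zero_iff {U : X.left.Opens} (hU : IsAffineOpen U) (h : Γ(X.left, U)) :
    (Models.specialFibreIdeal R X).subschemeι.app U h = 0 ↔ cst U ϖ ∣ h := by
  rw [← Ideal.mem_span_singleton, ← ideal_eq hϖ ⟨U, hU⟩]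
  show (Models.specialFibreIdeal R X).subschemeι.app (⟨U, hU⟩ : X.left.affineOpens).1 h = 0 ↔ _
  rw [← RingHom.mem_ker, (Models.specialFibreIdeal R X).ker_subschemeι_app]

include hϖ in
theorem Lift.dvd_sub {U : X.left.Opens} (hU : IsAffineOpen U) {f f' : Γ(X.left, U)} (hf : Lift y U f)
    (hf' : Lift y U f') : cst U ϖ ∣ f' - f :=
  (app_eq_zero_iff hϖ hU _).1 (by rw [map_sub]; exact sub_eq_zero.2 (Eq.trans hf' (Eq.symm hf)))

include hϖ in
theorem Lift.germ_sub {U U' : X.left.Opens} {η : X.left} (hU : η ∈ U) (hU' : η ∈ U') {f : Γ(X.left, U)}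
    {f' : Γ(X.left, U')} (hf : Lift y U f) (hf' : Lift y U' f') :
    X.left.presheaf.germ U' η hU' (cst U' ϖ) ∣
      X.left.presheaf.germ U' η hU' f' - X.left.presheaf.germ U η hU f := by
  obtain ⟨V, hV, hηV, hle⟩ := exists_isAffineOpen_mem_and_subset (x := η) (U := U ⊓ U') ⟨hU, hU'⟩
  have h := map_dvd (X.left.presheaf.germ V η hηV).hom
    (Lift.dvd_sub (y := y) (ϖ := ϖ) hϖ (hU := hV) (hf := hf.res y (fun z hz => (hle hz).1))
      (hf' := hf'.res y (fun z hz => (hle hz).2)))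
  rw [map_sub] at h
  have e1 : ∀ {O : X.left.Opens} (hO : η ∈ O) (hVO : V ≤ O) (g : Γ(X.left, O)),
      X.left.presheaf.germ V η hηV (ro hVO g) = X.left.presheaf.germ O η hO g := fun hO hVO g =>
    TopCat.Presheaf.germ_res_apply X.left.presheaf (homOfLE hVO) η hηV g
  rw [germ_cst hU' hηV, ← e1 hU' (fun z hz => (hle hz).2) f', ← e1 hU (fun z hz => (hle hz).1) f]
  exact h

/-- The slope of a function vanishing on the closed fibre. -/
structure Sloped (a q : ℕ) (η₀ : X.left) : Prop where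
  pos : 0 < a
  lt : a < q
  gen : η₀ ∈ gens (X := X)
  exact : ∀ (U : X.left.Opens), ∀ hη : η₀ ∈ U, IsAffineOpen U → ∀ f, Lift y U f →
    X.left.presheaf.germ U η₀ hη f ∈ IsLocalRing.maximalIdeal (X.left.presheaf.stalk η₀) ^ a ∧
      X.left.presheaf.germ U η₀ hη f ∉ IsLocalRing.maximalIdeal (X.left.presheaf.stalk η₀) ^ (a + 1)
  mult : ∀ (U : X.left.Opens), ∀ hη : η₀ ∈ U,
    Ideal.span {X.left.presheaf.germ U η₀ hη (cst U ϖ)} =
      IsLocalRing.maximalIdeal (X.left.presheaf.stalk η₀) ^ q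
  dvd : ∀ (U : X.left.Opens), IsAffineOpen U → ∀ f, Lift y U f → cst U ϖ ^ a ∣ f ^ q
  diff : ∀ (U : X.left.Opens), IsAffineOpen U → ∀ f f' g g', Lift y U f → Lift y U f' →
    f ^ q = cst U ϖ ^ a * g → f' ^ q = cst U ϖ ^ a * g' →
    ∀ x ∈ (Models.specialFibreSet R X), x ∈ U → x ∉ X.left.basicOpen (g' - g)

include hϖ hn in
/-- A nonzero function vanishing at all points of the closed fibre has a slope. -/
theorem exists_sloped (hy : (Models.specialFibreIdeal R X).subscheme.basicOpen y = ⊥) (hy0 : y ≠ 0) :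
    ∃ a q η₀, Sloped (ϖ := ϖ) y a q η₀ := by
  classical
  haveI : CompactSpace X.left := QuasiCompact.compactSpace_of_compactSpace X.hom
  haveI : AlgebraicGeometry.IsNoetherian X.left := { }
  have hfin : (gens (X := X)).Finite :=
    (Groth.L05.PtSeq.finite_isolated (Models.isClosed_specialFibreSet R X)).subset fun η hη => hη
  have hvan : ∀ {U : X.left.Opens} {η : X.left} (hU : η ∈ U) {f : Γ(X.left, U)}, η ∈ (Models.specialFibreSet R X) → Lift y U f →
      X.left.presheaf.germ U η hU f ∈ IsLocalRing.maximalIdeal (X.left.presheaf.stalk η) := by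
    intro U η hU f hη hf hu
    rw [← Groth.L05.FibreDecomp.support_specialFibreIdeal, ← Scheme.IdealSheafData.range_subschemeι] at hη
    obtain ⟨z, rfl⟩ := hη
    have h : z ∈ (Models.specialFibreIdeal R X).subschemeι ⁻¹ᵁ X.left.basicOpen f := (X.left.mem_basicOpen f _ hU).2 hu
    rw [Scheme.preimage_basicOpen, hf, Scheme.basicOpen_res] at h
    rw [hy] at h
    exact h.2
  -- multiplicities and orders
  have hdata : ∀ η : gens (X := X), ∃ e w : ℕ, 0 < e ∧ w ≤ e ∧
      (∀ (U : X.left.Opens), ∀ hU : η.1 ∈ U, Ideal.span {X.left.presheaf.germ U η.1 hU (cst U ϖ)} =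
        IsLocalRing.maximalIdeal (X.left.presheaf.stalk η.1) ^ e) ∧
      (∀ (U : X.left.Opens), ∀ hU : η.1 ∈ U, IsAffineOpen U → ∀ f, Lift y U f →
        X.left.presheaf.germ U η.1 hU f ∈ IsLocalRing.maximalIdeal (X.left.presheaf.stalk η.1) ^ w ∧
        (w < e → X.left.presheaf.germ U η.1 hU f ∉
          IsLocalRing.maximalIdeal (X.left.presheaf.stalk η.1) ^ (w + 1))) := by
    rintro ⟨η, hη⟩
    obtain ⟨_, hdv⟩ := dvr_stalk hϖ hn hη
    haveI := hdv
    obtain ⟨U₀, hU₀, hηU₀, -⟩ := exists_isAffineOpen_mem_and_subset (x := η) (U := (⊤ : X.left.Opens)) trivial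
    obtain ⟨f₀, hf₀⟩ := exists_lift y hU₀
    let t := X.left.presheaf.germ U₀ η hηU₀ (cst U₀ ϖ)
    have ht0 : t ≠ 0 := fun h0 =>
      cst_ne_zero U₀ ⟨⟨η, hηU₀⟩⟩ hϖ.ne_zero (germ_injective_of_isIntegral X.left η hηU₀ (h0.trans (map_zero _).symm))
    obtain ⟨e, he⟩ := exists_span_eq_pow ht0
    have he0 : 0 < e := by
      by_contra h0
      rw [Nat.eq_zero_of_not_pos h0, pow_zero, Ideal.one_eq_top, Ideal.span_singleton_eq_top] at he
      exact cst_germ_mem hϖ hη.1 hηU₀ he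
    let P : ℕ → Prop := fun k =>
      X.left.presheaf.germ U₀ η hηU₀ f₀ ∈ IsLocalRing.maximalIdeal (X.left.presheaf.stalk η) ^ k
    refine ⟨e, Nat.findGreatest P e, he0, Nat.findGreatest_le e,
      fun U hU => by rw [germ_cst hU hηU₀]; exact he, fun U hU hUa f hf => ?_⟩
    have hd : X.left.presheaf.germ U η hU f - X.left.presheaf.germ U₀ η hηU₀ f₀ ∈
        IsLocalRing.maximalIdeal (X.left.presheaf.stalk η) ^ e := by
      rw [← he, Ideal.mem_span_singleton]
      have h := hf₀.germ_sub hϖ y hηU₀ hU hf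
      rwa [germ_cst hU hηU₀] at h
    have hP : P (Nat.findGreatest P e) :=
      Nat.findGreatest_spec (P := P) (Nat.zero_le e) (show P 0 by simp [P])
    refine ⟨by simpa using add_mem (Ideal.pow_le_pow_right (Nat.findGreatest_le e) hd) hP, fun hlt hmem => ?_⟩
    exact Nat.findGreatest_is_greatest (P := P) (Nat.lt_succ_self _) hlt
      (by simpa [P] using sub_mem hmem (Ideal.pow_le_pow_right hlt hd))
  choose e w he hwe hmult hord using hdata
  haveI := hfin.to_subtype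
  obtain ⟨η₁, hη₁⟩ : ∃ η, w η < e η := by
    by_contra! hall
    refine hy0 (ext_of_cover (Models.specialFibreIdeal R X).subschemeι (fun U : X.left.affineOpens => U.1) (fun x => ?_) y 0 fun U => ?_)
    · obtain ⟨U, hU, hx, -⟩ := exists_isAffineOpen_mem_and_subset (x := x) (U := (⊤ : X.left.Opens)) trivial
      exact ⟨⟨U, hU⟩, hx⟩
    · obtain ⟨f, hf⟩ := exists_lift y U.2
      rw [← hf]
      refine ((app_eq_zero_iff hϖ U.2 f).2 ?_).trans (map_zero _).symm
      rw [← pow_one (cst U.1 ϖ)]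
      refine dvd_of_germ hϖ hn U.2 1 f fun η hη hηU => ?_
      rw [pow_one, ← Ideal.mem_span_singleton, hmult ⟨η, hη⟩ U.1 hηU, le_antisymm (hall ⟨η, hη⟩) (hwe ⟨η, hη⟩)]
      exact (hord ⟨η, hη⟩ U.1 hηU U.2 f hf).1
  haveI : Nonempty (gens (X := X)) := ⟨η₁⟩
  obtain ⟨η₀, hmin⟩ := Finite.exists_min (fun η => (w η : ℚ) / (e η : ℚ))
  have hcross : ∀ η, w η₀ * e η ≤ e η₀ * w η := fun η => by
    have h := hmin η
    rw [div_le_div_iff₀ (by exact_mod_cast he η₀) (by exact_mod_cast he η)] at h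
    rw [mul_comm (e η₀)]
    exact_mod_cast h
  have hlt : w η₀ < e η₀ := by
    by_contra! hge
    have h1 := hcross η₁
    rw [le_antisymm (hwe η₀) hge] at h1
    exact absurd (Nat.le_of_mul_le_mul_left h1 (he η₀)) (not_le.2 hη₁)
  obtain ⟨U₀, hU₀, hη₀U₀, -⟩ := exists_isAffineOpen_mem_and_subset (x := η₀.1) (U := (⊤ : X.left.Opens)) trivial
  obtain ⟨f₀, hf₀⟩ := exists_lift y hU₀
  refine ⟨w η₀, e η₀, η₀.1, ⟨?_, hlt, η₀.2, fun U hU hUa f hf => ⟨(hord η₀ U hU hUa f hf).1, (hord η₀ U hU hUa f hf).2 hlt⟩,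
    hmult η₀, fun U hUa f hf => ?_, fun U hUa f f' g g' hf hf' hg hg' x hxF hxU hx => ?_⟩⟩
  · by_contra h0
    refine (hord η₀ U₀ hη₀U₀ hU₀ f₀ hf₀).2 hlt ?_
    rw [Nat.eq_zero_of_not_pos h0, pow_one]
    exact hvan hη₀U₀ η₀.2.1 hf₀
  · refine dvd_of_germ hϖ hn hUa _ _ fun η hη hηU => ?_
    rw [map_pow, map_pow, ← Ideal.mem_span_singleton, ← Ideal.span_singleton_pow, hmult ⟨η, hη⟩ U hηU, ← pow_mul]
    have h2 : X.left.presheaf.germ U η hηU f ^ e η₀ ∈
        IsLocalRing.maximalIdeal (X.left.presheaf.stalk η) ^ (w ⟨η, hη⟩ * e η₀) := by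
      rw [pow_mul]
      exact Ideal.pow_mem_pow (hord ⟨η, hη⟩ U hηU hUa f hf).1 (e η₀)
    refine Ideal.pow_le_pow_right ?_ h2
    have := hcross ⟨η, hη⟩
    rw [mul_comm (e ⟨η, hη⟩), mul_comm (w ⟨η, hη⟩)]
    exact this
  · obtain ⟨ξ, hξF, hξiso, hξx⟩ :=
      Groth.L05.PtSeq.exists_isolated_generalization (Models.isClosed_specialFibreSet R X) hxF
    have hξ : ξ ∈ gens (X := X) := ⟨hξF, hξiso⟩
    obtain ⟨_, hdv⟩ := dvr_stalk hϖ hn hξ
    haveI := hdv
    have hξU : ξ ∈ U := hξx.mem_open U.2 hxU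
    have hu : IsUnit (X.left.presheaf.germ U ξ hξU (g' - g)) :=
      (X.left.mem_basicOpen _ ξ hξU).1 (hξx.mem_open (X.left.basicOpen (g' - g)).2 hx)
    have hd : X.left.presheaf.germ U ξ hξU f' - X.left.presheaf.germ U ξ hξU f ∈
        IsLocalRing.maximalIdeal (X.left.presheaf.stalk ξ) ^ e ⟨ξ, hξ⟩ := by
      rw [← hmult ⟨ξ, hξ⟩ U hξU, Ideal.mem_span_singleton]
      exact hf.germ_sub hϖ y hξU hξU hf'
    have h1 := pow_sub_pow_mem (hwe ⟨ξ, hξ⟩) (hord ⟨ξ, hξ⟩ U hξU hUa f hf).1 hd (he ⟨ξ, hξ⟩) (hcross ⟨ξ, hξ⟩) hlt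
    rw [← map_pow, ← map_pow, ← map_sub, hg, hg', ← mul_sub, map_mul, map_pow, mul_comm (w η₀)] at h1
    refine not_pow_le (O := X.left.presheaf.stalk ξ) (e ⟨ξ, hξ⟩ * w η₀) ?_
    rw [pow_mul, ← hmult ⟨ξ, hξ⟩ U hξU, Ideal.span_singleton_pow, Ideal.span_singleton_le_iff_mem, mul_comm]
    refine (Ideal.mul_unit_mem_iff_mem _ hu).1 ?_
    rw [mul_comm (w η₀) (e ⟨ξ, hξ⟩)]; exact h1

end Groth.L05.Slope
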