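import Groth.Agent.L05.CohFlat.Slope
import Groth.Agent.L05.ModelGeneric.Gamma
import Groth.Agent.L16.Connected.AppIso
import Groth.Agent.L16.Connected.Fibre
import Groth.Agent.L18.Contract.Detect
import Mathlib.RingTheory.Artinian.Module

/-!
# The unit part of a slope, and its consequences with a section
-/

set_option autoImplicit false
set_option linter.style.haveILetI false
set_option linter.unusedSectionVars false
set_option maxHeartbeats 1000000
set_option backward.isDefEq.respectTransparency false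
set_option backward.isDefEq.respectTransparency.types false

universe u

open CategoryTheory CategoryTheory.Limits AlgebraicGeometry TopologicalSpace Opposite
open Groth.L18.Frame (ro ro_ro ro_self)
open Groth.L20.PicThick (app_ro)

noncomputable section

namespace Groth.L05.Slope

/-- An Artinian reduced ring with trivial idempotents is a field. -/
theorem isField_of_idempotents (L : Type u) [CommRing L] [IsArtinianRing L] [_root_.IsReduced L] [Nontrivial L]
    (h : ∀ e : L, e * e = e → e = 0 ∨ e = 1) : IsField L := by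
  refine ⟨exists_pair_ne L, mul_comm, fun {a} ha => ?_⟩
  obtain ⟨n, u, hu⟩ := IsArtinian.exists_pow_succ_smul_dvd a (1 : L)
  simp only [smul_eq_mul, mul_one] at hu
  have h1 : ∀ k, a ^ n = a ^ (n + k) * u ^ k := fun k => by
    induction k with
    | zero => simp
    | succ k ih =>
      calc a ^ n = a ^ (n + k) * u ^ k := ih
        _ = a ^ k * a ^ n * u ^ k := by rw [pow_add]; ring
        _ = a ^ k * (a ^ (n + 1) * u) * u ^ k := by rw [hu]
        _ = a ^ (n + (k + 1)) * u ^ (k + 1) := by ring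
  have hn : a ^ n = a ^ (n + n) * u ^ n := h1 n
  rcases h (a ^ n * u ^ n) (by
    calc a ^ n * u ^ n * (a ^ n * u ^ n) = a ^ (n + n) * u ^ n * u ^ n := by ring
      _ = a ^ n * u ^ n := by rw [← hn]) with h0 | h1'
  · refine absurd ?_ ha
    refine IsReduced.eq_zero a ⟨n, ?_⟩
    rw [hn]
    calc a ^ (n + n) * u ^ n = a ^ n * (a ^ n * u ^ n) := by ring
      _ = 0 := by rw [h0, mul_zero]
  · rcases n with _ | n
    · exact ⟨u, by simpa using hu⟩
    · exact ⟨a ^ n * u ^ (n + 1), by rw [← mul_assoc, ← pow_succ', h1']⟩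

variable {R : Type u} [CommRing R] [IsDomain R] [IsDiscreteValuationRing R]
  {X : Over (Spec (CommRingCat.of R))} [IsProper X.hom] [IsLocallyNoetherian X.left] [Flat X.hom]
  [IsIntegral X.left]
variable {ϖ : R} (hϖ : Irreducible ϖ)

/-- The closed fibre of a model with no functions but the constants is connected. -/
theorem isPreconnected_fibre (hT : Function.Surjective (Coh.toGlobal X.hom)) :
    _root_.IsPreconnected (Models.specialFibreSet R X) := by
  let S := Spec (CommRingCat.of R)
  let iso := (Scheme.ΓSpecIso (CommRingCat.of R)).inv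
  have hinj : Function.Injective (Coh.toGlobal X.hom) := (injective_iff_map_eq_zero (Coh.toGlobal X.hom)).2
    fun a ha => by_contra fun hne => Groth.L05.CohFlat.toGlobal_ne_zero (X := X) hne ha
  have hbij : Function.Bijective (X.hom.app ⊤) := by
    refine ⟨fun a b hab => ?_, fun x => ?_⟩
    · obtain ⟨a, rfl⟩ := (ConcreteCategory.bijective_of_isIso iso).2 a
      obtain ⟨b, rfl⟩ := (ConcreteCategory.bijective_of_isIso iso).2 b
      exact congrArg _ (hinj hab)
    · obtain ⟨r, rfl⟩ := hT x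
      exact ⟨iso r, rfl⟩
  have hO := (Groth.L16.Connected.isIso_app_le X.hom (isAffineOpen_top S) hbij).1
  haveI : GeometricallyConnected X.hom := Groth.L16.Connected.geometricallyConnected X.hom fun U => hO U le_top
  let j : Spec (CommRingCat.of (IsLocalRing.ResidueField R)) ⟶ S :=
    Spec.map (CommRingCat.ofHom (algebraMap R (IsLocalRing.ResidueField R)))
  haveI : ConnectedSpace ↥(pullback X.hom j) :=
    GeometricallyConnected.geometrically_connectedSpace (f := X.hom) (K := IsLocalRing.ResidueField R) _ _ _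
      (IsPullback.of_hasPullback X.hom j)
  have hj : Set.range j = {IsLocalRing.closedPoint R} := by
    ext x
    constructor
    · rintro ⟨y, rfl⟩
      refine PrimeSpectrum.ext ?_
      show Ideal.comap (algebraMap R (IsLocalRing.ResidueField R)) y.asIdeal = IsLocalRing.maximalIdeal R
      rw [show y.asIdeal = (⊥ : Ideal (IsLocalRing.ResidueField R)) from
        (Ideal.eq_bot_or_top y.asIdeal).resolve_right y.2.ne_top]
      exact Ideal.mk_ker
    · rintro rfl
      refine ⟨IsLocalRing.closedPoint _, PrimeSpectrum.ext ?_⟩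
      show Ideal.comap (algebraMap R (IsLocalRing.ResidueField R)) (IsLocalRing.maximalIdeal _) = _
      rw [IsLocalRing.maximalIdeal_eq_bot]
      exact Ideal.mk_ker
  rw [show Models.specialFibreSet R X = Set.range (pullback.fst X.hom j) by
    rw [Scheme.Pullback.range_fst, hj]; rfl]
  exact isPreconnected_range (pullback.fst X.hom j).continuous

theorem support_red : ((Models.redFibreIdeal R X).support : Set X.left) = Models.specialFibreSet R X :=
  Scheme.IdealSheafData.coe_support_vanishingIdeal _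

theorem le_red : Models.specialFibreIdeal R X ≤ Models.redFibreIdeal R X := by
  refine Scheme.IdealSheafData.le_support_iff_le_vanishingIdeal.1 ?_
  intro x hx
  show x ∈ ((Models.specialFibreIdeal R X).support : Set X.left)
  rw [Groth.L05.FibreDecomp.support_specialFibreIdeal]
  exact hx

/-- Restriction to the reduced closed fibre. -/
abbrev red : (Models.redFibreIdeal R X).subscheme ⟶ (Models.specialFibreIdeal R X).subscheme :=
  Scheme.IdealSheafData.inclusion le_red

theorem isThickening_red : MoreMor.IsThickening (red (X := X)) := by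
  have hfac := Scheme.IdealSheafData.inclusion_subschemeι (le_red (X := X))
  haveI : IsClosedImmersion (red ≫ (Models.specialFibreIdeal R X).subschemeι) := hfac.symm ▸ inferInstance
  refine ⟨IsClosedImmersion.of_comp _ (Models.specialFibreIdeal R X).subschemeι, ⟨fun d => ?_⟩⟩
  have hd : (Models.specialFibreIdeal R X).subschemeι d ∈ ((Models.redFibreIdeal R X).support : Set X.left) := by
    rw [support_red, ← Groth.L05.FibreDecomp.support_specialFibreIdeal,
      ← Scheme.IdealSheafData.range_subschemeι]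
    exact ⟨d, rfl⟩
  rw [← Scheme.IdealSheafData.range_subschemeι] at hd
  obtain ⟨c, hc⟩ := hd
  refine ⟨c, (Models.specialFibreIdeal R X).subschemeι.isClosedEmbedding.injective ?_⟩
  rw [← Scheme.Hom.comp_apply, hfac, hc]

theorem isReduced_red : IsReduced (Models.redFibreIdeal R X).subscheme :=
  Groth.L18.isReduced_vanishingIdeal_subscheme _

theorem mem_fibre (z : ↥(Models.redFibreIdeal R X).subscheme) :
    (Models.redFibreIdeal R X).subschemeι z ∈ Models.specialFibreSet R X := by
  rw [← support_red, ← Scheme.IdealSheafData.range_subschemeι]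
  exact ⟨z, rfl⟩

/-- A section vanishing at all points of the closed fibre vanishes on the reduced closed fibre. -/
theorem app_red_eq_zero {U : X.left.Opens} (g : Γ(X.left, U))
    (h : ∀ x ∈ Models.specialFibreSet R X, x ∈ U → x ∉ X.left.basicOpen g) :
    (Models.redFibreIdeal R X).subschemeι.app U g = 0 := by
  haveI := isReduced_red (X := X)
  refine eq_zero_of_basicOpen_eq_bot _ (Opens.ext (Set.eq_empty_iff_forall_notMem.2 fun z hz => ?_))
  rw [← Scheme.preimage_basicOpen] at hz
  exact h _ (mem_fibre z) (X.left.basicOpen_le g hz) hz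

theorem toGlobal_red (r : R) (U : X.left.Opens) :
    ro (le_top : (Models.redFibreIdeal R X).subschemeι ⁻¹ᵁ U ≤ ⊤)
      (Coh.toGlobal ((Models.redFibreIdeal R X).subschemeι ≫ X.hom) r) =
    (Models.redFibreIdeal R X).subschemeι.app U (cst U r) := by
  show _ = (Models.redFibreIdeal R X).subschemeι.app U (ro (le_top : U ≤ ⊤) (Coh.toGlobal X.hom r))
  rw [app_ro]
  rfl

include hϖ in
/-- The functions on the reduced closed fibre form a field. -/
theorem isField_red (hT : Function.Surjective (Coh.toGlobal X.hom)) (hne : (Models.specialFibreSet R X).Nonempty) :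
    IsField Γ((Models.redFibreIdeal R X).subscheme, ⊤) := by
  haveI := isReduced_red (X := X)
  let J := Models.redFibreIdeal R X
  let g : R →+* Γ(J.subscheme, ⊤) := Coh.toGlobal (J.subschemeι ≫ X.hom)
  have hgϖ : g ϖ = 0 := by
    refine ext_of_cover J.subschemeι (fun _ : PUnit.{u + 1} => (⊤ : X.left.Opens)) (fun _ => ⟨⟨⟩, trivial⟩) _ 0
      fun _ => ?_
    refine (toGlobal_red ϖ ⊤).trans ((app_red_eq_zero _ fun x hx hU => (mem_F_iff hϖ hU).1 hx).trans ?_)
    exact (map_zero _).symm
  let gk : IsLocalRing.ResidueField R →+* Γ(J.subscheme, ⊤) :=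
    Ideal.Quotient.lift (IsLocalRing.maximalIdeal R) g fun r hr => by
      rw [hϖ.maximalIdeal_eq, Ideal.mem_span_singleton'] at hr
      obtain ⟨c, rfl⟩ := hr
      rw [map_mul, hgϖ, mul_zero]
  letI : Algebra R Γ(J.subscheme, ⊤) := g.toAlgebra
  letI : Algebra (IsLocalRing.ResidueField R) Γ(J.subscheme, ⊤) := gk.toAlgebra
  haveI : IsScalarTower R (IsLocalRing.ResidueField R) Γ(J.subscheme, ⊤) :=
    IsScalarTower.of_algebraMap_eq fun r => rfl
  haveI : Module.Finite R Γ(J.subscheme, ⊤) := Groth.L05.EulerDiv.finite_Γ_subscheme (X := X) J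
  haveI : Module.Finite (IsLocalRing.ResidueField R) Γ(J.subscheme, ⊤) :=
    Module.Finite.of_restrictScalars_finite R (IsLocalRing.ResidueField R) _
  haveI : IsArtinianRing Γ(J.subscheme, ⊤) := IsArtinianRing.of_finite (IsLocalRing.ResidueField R) _
  have hconn : ConnectedSpace ↥J.subscheme := by
    refine connectedSpace_iff_univ.2 ⟨?_, ?_⟩
    · obtain ⟨x, hx⟩ := hne
      rw [← support_red, ← Scheme.IdealSheafData.range_subschemeι] at hx
      obtain ⟨z, -⟩ := hx
      exact ⟨z, trivial⟩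
    · rw [← (J.subschemeι.isClosedEmbedding.isEmbedding.isInducing.isPreconnected_image), Set.image_univ,
        Scheme.IdealSheafData.range_subschemeι, support_red]
      exact isPreconnected_fibre hT
  haveI := hconn
  obtain ⟨z⟩ := (inferInstance : Nonempty ↥J.subscheme)
  haveI : Nonempty ↥((⊤ : J.subscheme.Opens) : Scheme.{u}) := ⟨⟨z, trivial⟩⟩
  haveI : Nontrivial Γ(J.subscheme, ⊤) := Scheme.component_nontrivial _ ⊤
  exact isField_of_idempotents _ fun e he => Groth.L05.ModelGeneric.idempotent_trivial he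

variable (hn : Pi1.IsNormalScheme X.left) (hT : Function.Surjective (Coh.toGlobal X.hom))
  (y : Γ((Models.specialFibreIdeal R X).subscheme, ⊤))

include hϖ hn hT in
/-- The unit part of a slope is a nonzero function on the reduced closed fibre. -/
theorem exists_unit_part {a q : ℕ} {η₀ : X.left} (hs : Sloped (ϖ := ϖ) y a q η₀) :
    ∃ v : Γ((Models.redFibreIdeal R X).subscheme, ⊤), v ≠ 0 ∧
      ∀ (U : X.left.Opens), IsAffineOpen U → ∀ f g, Lift y U f → f ^ q = cst U ϖ ^ a * g →
        (Models.redFibreIdeal R X).subschemeι.app U g =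
            ro (le_top : (Models.redFibreIdeal R X).subschemeι ⁻¹ᵁ U ≤ ⊤) v ∧
          ∀ x ∈ Models.specialFibreSet R X, x ∈ U → x ∈ X.left.basicOpen g := by
  classical
  haveI := isReduced_red (X := X)
  let J := Models.redFibreIdeal R X
  choose f hf using fun U : X.left.affineOpens => exists_lift y U.2
  choose g hg using fun U : X.left.affineOpens => hs.dvd U.1 U.2 (f U) (hf U)
  have hcomp : ∀ (U V : X.left.Opens) (hVU : V ≤ U) (f g : Γ(X.left, U)), f ^ q = cst U ϖ ^ a * g →
      ro hVU f ^ q = cst V ϖ ^ a * ro hVU g := fun U V hVU f g h => by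
    rw [← ro_cst hVU, ← map_pow, h, map_mul, map_pow]
  have hkey : ∀ (U : X.left.Opens), IsAffineOpen U → ∀ f g f' g', Lift y U f → Lift y U f' →
      f ^ q = cst U ϖ ^ a * g → f' ^ q = cst U ϖ ^ a * g' → J.subschemeι.app U g = J.subschemeι.app U g' := by
    intro U hU f g f' g' hf hf' h h'
    refine (sub_eq_zero.1 ?_).symm
    rw [← map_sub]
    exact app_red_eq_zero _ fun x hxF hxU => hs.diff U hU f f' g g' hf hf' h h' x hxF hxU
  have hcov : ∀ x : X.left, ∃ U : X.left.affineOpens, x ∈ U.1 := fun x => by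
    obtain ⟨U, hU, hx, -⟩ := exists_isAffineOpen_mem_and_subset (x := x) (U := (⊤ : X.left.Opens)) trivial
    exact ⟨⟨U, hU⟩, hx⟩
  obtain ⟨v, hv⟩ := exists_glue J.subschemeι (fun U : X.left.affineOpens => U.1) hcov
    (fun U => J.subschemeι.app U.1 (g U)) fun U U' V hU hU' hV => by
      rw [← app_ro J.subschemeι hU, ← app_ro J.subschemeι hU']
      exact hkey V hV _ _ _ _ ((hf U).res y hU) ((hf U').res y hU') (hcomp _ _ hU _ _ (hg U))
        (hcomp _ _ hU' _ _ (hg U'))
  have happ : ∀ (U : X.left.Opens), IsAffineOpen U → ∀ f g, Lift y U f → f ^ q = cst U ϖ ^ a * g →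
      J.subschemeι.app U g = ro (le_top : J.subschemeι ⁻¹ᵁ U ≤ ⊤) v := fun U hU f' g' hf' hg' => by
    rw [hv ⟨U, hU⟩]
    exact hkey U hU f' g' _ _ hf' (hf ⟨U, hU⟩) hg' (hg ⟨U, hU⟩)
  obtain ⟨U₀, hη₀⟩ := hcov η₀
  obtain ⟨_, hdv⟩ := dvr_stalk hϖ hn hs.gen
  haveI := hdv
  -- the unit part does not vanish at the chosen point
  have hg₀ : η₀ ∈ X.left.basicOpen (g U₀) := by
    by_contra hnot
    have hm : X.left.presheaf.germ U₀.1 η₀ hη₀ (g U₀) ∈ IsLocalRing.maximalIdeal (X.left.presheaf.stalk η₀) :=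
      fun hu => hnot ((X.left.mem_basicOpen _ η₀ hη₀).2 hu)
    have h1 := congrArg (X.left.presheaf.germ U₀.1 η₀ hη₀) (hg U₀)
    rw [map_pow, map_mul, map_pow] at h1
    obtain ⟨hin, hout⟩ := hs.exact U₀.1 hη₀ U₀.2 (f U₀) (hf U₀)
    refine not_pow_le (O := X.left.presheaf.stalk η₀) (a * q) ?_
    rw [pow_mul, ← span_eq_pow hin hout, Ideal.span_singleton_pow, Ideal.span_singleton_le_iff_mem, h1,
      pow_succ, mul_comm a q, pow_mul, ← hs.mult U₀.1 hη₀]
    exact Ideal.mul_mem_mul (Ideal.pow_mem_pow (Ideal.mem_span_singleton_self _) a) hm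
  have hv0 : v ≠ 0 := by
    intro h0
    have hη₀' : η₀ ∈ ((Models.redFibreIdeal R X).support : Set X.left) := by rw [support_red]; exact hs.gen.1
    rw [← Scheme.IdealSheafData.range_subschemeι] at hη₀'
    obtain ⟨z, rfl⟩ := hη₀'
    have hz : z ∈ J.subschemeι ⁻¹ᵁ X.left.basicOpen (g U₀) := hg₀
    rw [Scheme.preimage_basicOpen, happ U₀.1 U₀.2 _ _ (hf U₀) (hg U₀), Scheme.basicOpen_res, h0,
      Scheme.basicOpen_zero] at hz
    exact hz.2
  refine ⟨v, hv0, fun U hU f' g' hf' hg' => ⟨happ U hU f' g' hf' hg', fun x hxF hxU => ?_⟩⟩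
  rw [← support_red, ← Scheme.IdealSheafData.range_subschemeι] at hxF
  obtain ⟨z, rfl⟩ := hxF
  letI := (isField_red hϖ hT ⟨η₀, hs.gen.1⟩).toField
  have hu : IsUnit v := Ne.isUnit hv0
  show z ∈ J.subschemeι ⁻¹ᵁ X.left.basicOpen g'
  rw [Scheme.preimage_basicOpen, happ U hU f' g' hf' hg', Scheme.basicOpen_res,
    J.subscheme.basicOpen_of_isUnit hu]
  exact ⟨hxU, trivial⟩

/-- The value at a section. -/
def ev (σ : Spec (CommRingCat.of R) ⟶ X.left) (U : X.left.Opens) (h : ⊤ ≤ σ ⁻¹ᵁ U) : Γ(X.left, U) →+* R :=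
  ((σ.appLE U ⊤ h) ≫ (Scheme.ΓSpecIso (CommRingCat.of R)).hom).hom

theorem le_preimage (σ : Spec (CommRingCat.of R) ⟶ X.left) {U : X.left.Opens}
    (h : σ (IsLocalRing.closedPoint R) ∈ U) : ⊤ ≤ σ ⁻¹ᵁ U := fun z _ =>
  ((IsLocalRing.specializes_closedPoint z).map σ.continuous).mem_open U.2 h

theorem isUnit_ev (σ : Spec (CommRingCat.of R) ⟶ X.left) {U : X.left.Opens} (h : ⊤ ≤ σ ⁻¹ᵁ U)
    {g : Γ(X.left, U)} (hg : σ (IsLocalRing.closedPoint R) ∈ X.left.basicOpen g) : IsUnit (ev σ U h g) := by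
  have h1 := le_preimage σ hg
  rw [Scheme.preimage_basicOpen] at h1
  have h2 : IsUnit (σ.appLE U ⊤ h g) := by
    refine RingedSpace.isUnit_of_isUnit_germ (Spec (CommRingCat.of R)).toLocallyRingedSpace.toSheafedSpace ⊤ _
      fun z hz => ?_
    have h3 := h1 (show z ∈ (⊤ : (Spec (CommRingCat.of R)).Opens) from trivial)
    have h4 : z ∈ (Spec (CommRingCat.of R)).basicOpen (σ.appLE U ⊤ h g) := by
      rw [Scheme.Hom.appLE]
      show z ∈ (Spec (CommRingCat.of R)).basicOpen ((Spec (CommRingCat.of R)).presheaf.map _ (σ.app U g))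
      rw [Scheme.basicOpen_res]
      exact ⟨trivial, h3⟩
    exact ((Spec (CommRingCat.of R)).mem_basicOpen _ z hz).1 h4
  exact h2.map (Scheme.ΓSpecIso (CommRingCat.of R)).hom.hom

theorem ev_cst (σ : Spec (CommRingCat.of R) ⟶ X.left) (hσ : σ ≫ X.hom = 𝟙 _) {U : X.left.Opens}
    (h : ⊤ ≤ σ ⁻¹ᵁ U) (r : R) : ev σ U h (cst U r) = r := by
  show (Scheme.ΓSpecIso (CommRingCat.of R)).hom ((σ.appLE U ⊤ h) (ro (le_top : U ≤ ⊤) (Coh.toGlobal X.hom r))) = r
  rw [show (σ.appLE U ⊤ h) (ro (le_top : U ≤ ⊤) (Coh.toGlobal X.hom r)) = σ.appTop (Coh.toGlobal X.hom r) by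
    refine (congr($(σ.map_appLE h (homOfLE (le_top : U ≤ ⊤)).op) _)).trans ?_
    rw [Scheme.Hom.appTop, Scheme.Hom.app_eq_appLE]
    rfl]
  show (Scheme.ΓSpecIso (CommRingCat.of R)).hom (σ.appTop (X.hom.appTop
    ((Scheme.ΓSpecIso (CommRingCat.of R)).inv r))) = r
  rw [← CommRingCat.comp_apply X.hom.appTop, ← Scheme.Hom.comp_appTop, hσ]
  simp

include hϖ hn hT in
/-- With a section, no function has a slope. -/
theorem not_sloped_of_section (σ : Spec (CommRingCat.of R) ⟶ X.left) (hσ : σ ≫ X.hom = 𝟙 _)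
    {a q : ℕ} {η₀ : X.left} (hs : Sloped (ϖ := ϖ) y a q η₀) : False := by
  obtain ⟨v, -, hv⟩ := exists_unit_part hϖ hn hT y hs
  let x₀ := σ (IsLocalRing.closedPoint R)
  have hxF : x₀ ∈ Models.specialFibreSet R X := by
    show X.hom (σ (IsLocalRing.closedPoint R)) = _
    rw [← Scheme.Hom.comp_apply, hσ]
    rfl
  obtain ⟨U, hU, hxU, -⟩ := exists_isAffineOpen_mem_and_subset (x := x₀) (U := (⊤ : X.left.Opens)) trivial
  obtain ⟨f, hf⟩ := exists_lift y hU
  obtain ⟨g, hg⟩ := hs.dvd U hU f hf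
  have hu := isUnit_ev σ (le_preimage σ hxU) ((hv U hU f g hf hg).2 x₀ hxF hxU)
  have he := congrArg (ev σ U (le_preimage σ hxU)) hg
  rw [map_pow, map_mul, map_pow, ev_cst σ hσ] at he
  by_cases h0 : ev σ U (le_preimage σ hxU) f = 0
  · rw [h0, zero_pow (by have := hs.lt; omega)] at he
    exact mul_ne_zero (pow_ne_zero _ hϖ.ne_zero) hu.ne_zero he.symm
  obtain ⟨m, hm⟩ := IsDiscreteValuationRing.associated_pow_irreducible h0 hϖ
  have h1 : Associated ((ϖ ^ m) ^ q) (ϖ ^ a) :=
    (hm.symm.pow_pow).trans (he ▸ associated_mul_unit_left _ _ hu)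
  rw [← pow_mul] at h1
  have h2 : m * q = a := le_antisymm ((pow_dvd_pow_iff hϖ.ne_zero hϖ.not_isUnit).1 h1.dvd)
    ((pow_dvd_pow_iff hϖ.ne_zero hϖ.not_isUnit).1 h1.symm.dvd)
  have h3 := hs.pos
  have h4 := hs.lt
  rcases Nat.eq_zero_or_pos m with rfl | hm0
  · omega
  · have := Nat.le_mul_of_pos_left q hm0
    omega

include hϖ hT in
/-- With a section, functions on the reduced closed fibre are constants. -/
theorem red_const_of_section (σ : Spec (CommRingCat.of R) ⟶ X.left) (hσ : σ ≫ X.hom = 𝟙 _)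
    (v : Γ((Models.redFibreIdeal R X).subscheme, ⊤)) :
    ∃ r : R, v = Coh.toGlobal ((Models.redFibreIdeal R X).subschemeι ≫ X.hom) r := by
  let J := Models.redFibreIdeal R X
  let x₀ := σ (IsLocalRing.closedPoint R)
  have hxF : x₀ ∈ Models.specialFibreSet R X := by
    show X.hom (σ (IsLocalRing.closedPoint R)) = _
    rw [← Scheme.Hom.comp_apply, hσ]
    rfl
  obtain ⟨U, hU, hxU, -⟩ := exists_isAffineOpen_mem_and_subset (x := x₀) (U := (⊤ : X.left.Opens)) trivial
  obtain ⟨h, hh⟩ := J.subschemeι.app_surjective U hU (ro (le_top : J.subschemeι ⁻¹ᵁ U ≤ ⊤) v)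
  let r := ev σ U (le_preimage σ hxU) h
  refine ⟨r, sub_eq_zero.1 (by_contra fun hne => ?_)⟩
  letI := (isField_red hϖ hT ⟨x₀, hxF⟩).toField
  let c : Γ((Models.redFibreIdeal R X).subscheme, ⊤) := Coh.toGlobal (J.subschemeι ≫ X.hom) r
  have hu : IsUnit (v - c) := Ne.isUnit hne
  have hx' : x₀ ∈ ((Models.redFibreIdeal R X).support : Set X.left) := by rw [support_red]; exact hxF
  rw [← Scheme.IdealSheafData.range_subschemeι] at hx'
  obtain ⟨z, hz⟩ := hx'
  have happ : J.subschemeι.app U (h - cst U r) =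
      ro (le_top : J.subschemeι ⁻¹ᵁ U ≤ ⊤) (v - c) := by
    rw [map_sub, hh, ← toGlobal_red r U]
    exact (map_sub _ _ _).symm
  have hzb : z ∈ J.subschemeι ⁻¹ᵁ X.left.basicOpen (h - cst U r) := by
    rw [Scheme.preimage_basicOpen, happ, Scheme.basicOpen_res, J.subscheme.basicOpen_of_isUnit hu]
    exact ⟨show J.subschemeι z ∈ U by rw [hz]; exact hxU, trivial⟩
  have hmem : x₀ ∈ X.left.basicOpen (h - cst U r) := hz ▸ hzb
  have := isUnit_ev σ (le_preimage σ hxU) hmem
  rw [map_sub, ev_cst σ hσ, sub_self] at this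
  exact not_isUnit_zero this

end Groth.L05.Slope
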