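import Groth.Agent.L05.CohFlat.SlopeField
import Mathlib.Dynamics.Newton
import Mathlib.FieldTheory.Perfect

/-!
# Cohomological flatness in degree zero of normal models with a section or residue characteristic zero
-/

set_option autoImplicit false
set_option linter.style.haveILetI false
set_option linter.unusedSectionVars false
set_option maxHeartbeats 1000000
set_option backward.isDefEq.respectTransparency false
set_option backward.isDefEq.respectTransparency.types false

universe u

open CategoryTheory CategoryTheory.Limits AlgebraicGeometry TopologicalSpace Opposite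
open Groth.L18.Frame (ro ro_ro ro_self)
open Groth.L20.PicThick (app_ro)
open Groth.L16.CohLinear (hmap)
open scoped Polynomial

noncomputable section

namespace Groth.L05.Slope

variable {R : Type u} [CommRing R] [IsDomain R] [IsDiscreteValuationRing R]
  {X : Over (Spec (CommRingCat.of R))} [IsProper X.hom] [IsLocallyNoetherian X.left] [Flat X.hom]
  [IsIntegral X.left]
variable {ϖ : R} (hϖ : Irreducible ϖ) (hT : Function.Surjective (Coh.toGlobal X.hom))

/-- The constants on the closed fibre. -/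
abbrev gI (X : Over (Spec (CommRingCat.of R))) : R →+* Γ((Models.specialFibreIdeal R X).subscheme, ⊤) :=
  Coh.toGlobal ((Models.specialFibreIdeal R X).subschemeι ≫ X.hom)

theorem gI_ro (r : R) (U : X.left.Opens) :
    ro (le_top : (Models.specialFibreIdeal R X).subschemeι ⁻¹ᵁ U ≤ ⊤) (gI X r) =
      (Models.specialFibreIdeal R X).subschemeι.app U (cst U r) := by
  show _ = (Models.specialFibreIdeal R X).subschemeι.app U (ro (le_top : U ≤ ⊤) (Coh.toGlobal X.hom r))
  rw [app_ro]
  rfl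

theorem red_gI (r : R) :
    (red (X := X)).appTop (gI X r) = Coh.toGlobal ((Models.redFibreIdeal R X).subschemeι ≫ X.hom) r := by
  show Coh.toGlobal (red ≫ (Models.specialFibreIdeal R X).subschemeι ≫ X.hom) r = _
  rw [← Category.assoc, Scheme.IdealSheafData.inclusion_subschemeι]

include hT in
theorem const_of_range (G : Γ((Models.specialFibreIdeal R X).subscheme, ⊤))
    (h : (Groth.L21.RR.e0 (ClSub.quotMod (Models.specialFibreIdeal R X))).symm G ∈
      Set.range (hmap (ClSub.toSubscheme (Models.specialFibreIdeal R X)) 0)) :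
    ∃ r : R, G = gI X r := by
  obtain ⟨w, hw⟩ := h
  obtain ⟨r, hr⟩ := hT (Groth.L21.RR.e0 (Coh.structureModule X.left) w)
  refine ⟨r, ?_⟩
  have h1 := congrArg (Groth.L21.RR.e0 (ClSub.quotMod (Models.specialFibreIdeal R X))) hw
  rw [Groth.L21.RR.e0_hmap, AddEquiv.apply_symm_apply, ← hr] at h1
  exact h1.symm

theorem eq_bot_of_red {t : Γ((Models.specialFibreIdeal R X).subscheme, ⊤)} (h : (red (X := X)).appTop t = 0) :
    (Models.specialFibreIdeal R X).subscheme.basicOpen t = ⊥ := by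
  refine Opens.ext (Set.eq_empty_iff_forall_notMem.2 fun z hz => ?_)
  obtain ⟨w, rfl⟩ := (isThickening_red (X := X)).2.surj z
  have hw : w ∈ (red (X := X)) ⁻¹ᵁ (Models.specialFibreIdeal R X).subscheme.basicOpen t := hz
  rw [Scheme.preimage_basicOpen_top, h, Scheme.basicOpen_zero] at hw
  exact hw

theorem isUnit_of_red {t : Γ((Models.specialFibreIdeal R X).subscheme, ⊤)} (h : IsUnit ((red (X := X)).appTop t)) :
    IsUnit t := by
  refine RingedSpace.isUnit_of_isUnit_germ
    (Models.specialFibreIdeal R X).subscheme.toLocallyRingedSpace.toSheafedSpace ⊤ t fun z hz => ?_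
  obtain ⟨w, rfl⟩ := (isThickening_red (X := X)).2.surj z
  refine ((Models.specialFibreIdeal R X).subscheme.mem_basicOpen t _ hz).1 ?_
  show w ∈ (red (X := X)) ⁻¹ᵁ (Models.specialFibreIdeal R X).subscheme.basicOpen t
  rw [Scheme.preimage_basicOpen_top, Scheme.basicOpen_of_isUnit _ h]
  trivial

include hϖ hT in
/-- With perfect residue field, functions on the reduced closed fibre are constants. -/
theorem red_const_of_perfect [PerfectField (IsLocalRing.ResidueField R)]
    (hne : (Models.specialFibreSet R X).Nonempty) (v : Γ((Models.redFibreIdeal R X).subscheme, ⊤)) :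
    ∃ r : R, v = Coh.toGlobal ((Models.redFibreIdeal R X).subschemeι ≫ X.hom) r := by
  let L := Γ((Models.redFibreIdeal R X).subscheme, ⊤)
  let k := IsLocalRing.ResidueField R
  let g : R →+* L := Coh.toGlobal ((Models.redFibreIdeal R X).subschemeι ≫ X.hom)
  letI : Field L := (isField_red hϖ hT hne).toField
  have hgϖ : g ϖ = 0 := by
    refine ext_of_cover (Models.redFibreIdeal R X).subschemeι (fun _ : PUnit.{u + 1} => (⊤ : X.left.Opens))
      (fun _ => ⟨⟨⟩, trivial⟩) _ 0 fun _ => ?_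
    refine (toGlobal_red ϖ ⊤).trans ((app_red_eq_zero _ fun x hx hU => (mem_F_iff hϖ hU).1 hx).trans ?_)
    exact (map_zero _).symm
  let gk : k →+* L := Ideal.Quotient.lift (IsLocalRing.maximalIdeal R) g fun r hr => by
    rw [hϖ.maximalIdeal_eq, Ideal.mem_span_singleton'] at hr
    obtain ⟨c, rfl⟩ := hr
    rw [map_mul, hgϖ, mul_zero]
  letI : Algebra R L := g.toAlgebra
  letI : Algebra k L := gk.toAlgebra
  haveI : IsScalarTower R k L := IsScalarTower.of_algebraMap_eq fun r => rfl
  haveI : Module.Finite R L := Groth.L05.EulerDiv.finite_Γ_subscheme (X := X) (Models.redFibreIdeal R X)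
  haveI : Module.Finite k L := Module.Finite.of_restrictScalars_finite R k _
  obtain ⟨P, hPm⟩ := Polynomial.map_surjective (IsLocalRing.residue R) IsLocalRing.residue_surjective (minpoly k v)
  have hcomp : (red (X := X)).appTop.hom.comp (gI X) = g := RingHom.ext fun r => red_gI r
  have heval : ∀ Q : R[X], Q.eval₂ g v = Polynomial.aeval v (Q.map (IsLocalRing.residue R)) := fun Q => by
    rw [Polynomial.aeval_def, Polynomial.eval₂_map]
    rfl
  have hint : _root_.IsIntegral k v := Algebra.IsIntegral.isIntegral v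
  have hroot : P.eval₂ ((red (X := X)).appTop.hom.comp (gI X)) v = 0 := by
    rw [hcomp, heval, hPm, minpoly.aeval]
  have hder : IsUnit ((Polynomial.derivative P).eval₂ ((red (X := X)).appTop.hom.comp (gI X)) v) := by
    rw [hcomp]
    refine Ne.isUnit ?_
    rw [heval, ← Polynomial.derivative_map, hPm]
    exact (PerfectField.separable_of_irreducible (minpoly.irreducible hint)).aeval_derivative_ne_zero
      (minpoly.aeval k v)
  obtain ⟨G, hG, hPG⟩ := Groth.L05.CohFlat.exists_root' (red (X := X)) isThickening_red (gI X) P v hroot hder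
  have hu : IsUnit ((Polynomial.derivative P).eval₂ (gI X) G) := by
    refine isUnit_of_red ?_
    rw [Polynomial.hom_eval₂]
    exact hG ▸ hder
  obtain ⟨r, hr⟩ := const_of_range hT G
    (Groth.L05.CohFlat.mem_range_of_simple_root hϖ _ P (by rw [AddEquiv.apply_symm_apply]; exact hPG)
      (by rw [AddEquiv.apply_symm_apply]; exact hu))
  exact ⟨r, by rw [← hG, hr, red_gI]⟩

/-- Vanishing at every point of the closed fibre. -/
def Van (U : X.left.Opens) (h : Γ(X.left, U)) : Prop :=
  ∀ x ∈ Models.specialFibreSet R X, ∀ hx : x ∈ U,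
    X.left.presheaf.germ U x hx h ∈ IsLocalRing.maximalIdeal (X.left.presheaf.stalk x)

theorem Van.res {U V : X.left.Opens} (hVU : V ≤ U) {h : Γ(X.left, U)} (hh : Van U h) : Van V (ro hVU h) :=
  fun x hx hxV => by
    have h1 := hh x hx (hVU hxV)
    rw [← TopCat.Presheaf.germ_res_apply X.left.presheaf (homOfLE hVU) x hxV h] at h1
    exact h1

theorem van_of_app_red {U : X.left.Opens} {h : Γ(X.left, U)}
    (hh : (Models.redFibreIdeal R X).subschemeι.app U h = 0) : Van U h := by
  intro x hxF hxU hu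
  rw [← support_red, ← Scheme.IdealSheafData.range_subschemeι] at hxF
  obtain ⟨z, rfl⟩ := hxF
  have hz : z ∈ (Models.redFibreIdeal R X).subschemeι ⁻¹ᵁ X.left.basicOpen h :=
    (X.left.mem_basicOpen h _ hxU).2 hu
  rw [Scheme.preimage_basicOpen, hh, Scheme.basicOpen_zero] at hz
  exact hz

include hϖ in
theorem Van.isNilpotent {U : X.left.Opens} (hU : IsAffineOpen U) {h : Γ(X.left, U)} (hh : Van U h) (n : ℕ) :
    IsNilpotent (Ideal.Quotient.mk (Ideal.span {cst U ϖ ^ (n + 1)}) h) := by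
  have hrad : h ∈ (Ideal.span {cst U ϖ ^ (n + 1)}).radical := by
    rw [Ideal.radical_eq_sInf]
    refine (Submodule.mem_sInf).2 fun P ⟨hle, hP⟩ => ?_
    haveI := hP
    by_contra hhP
    let Pp : Spec Γ(X.left, U) := ⟨P, hP⟩
    have hη := Groth.L22.LocalDim.fromSpec_mem hU Pp
    have hb : cst U ϖ ∈ P := hP.mem_of_pow_mem (n + 1) (hle (Ideal.subset_span rfl))
    refine hh (hU.fromSpec Pp) ?_ hη ?_
    · rw [mem_F_iff hϖ hη, Groth.L22.LocalDim.mem_basicOpen_iff hU hη,
        Groth.L22.LocalDim.primeIdealOf_fromSpec, not_not]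
      exact hb
    · refine (X.left.mem_basicOpen h _ hη).1 ?_
      rw [Groth.L22.LocalDim.mem_basicOpen_iff hU hη, Groth.L22.LocalDim.primeIdealOf_fromSpec]
      exact hhP
  obtain ⟨m, hm⟩ := hrad
  exact ⟨m, ((map_pow (Ideal.Quotient.mk _) h m).symm.trans (Ideal.Quotient.eq_zero_iff_mem.2 hm))⟩

include hϖ in
theorem van_of_isNilpotent {U : X.left.Opens} {h : Γ(X.left, U)} {n : ℕ}
    (hh : IsNilpotent (Ideal.Quotient.mk (Ideal.span {cst U ϖ ^ (n + 1)}) h)) : Van U h := by
  obtain ⟨m, hm⟩ := hh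
  replace hm := Ideal.Quotient.eq_zero_iff_mem.1 ((map_pow (Ideal.Quotient.mk _) h m).trans hm)
  rw [Ideal.mem_span_singleton] at hm
  intro x hxF hxU hu
  have h1 := map_dvd (X.left.presheaf.germ U x hxU).hom hm
  rw [map_pow, map_pow] at h1
  exact cst_germ_mem hϖ hxF hxU ((isUnit_pow_succ_iff (n := n)).1 (isUnit_of_dvd_unit h1 (IsUnit.pow m hu)))

/-- An approximate root of the unit part. -/
structure Root (n q : ℕ) (c : R) (U : X.left.Opens) (g s : Γ(X.left, U)) : Prop where
  dvd : cst U ϖ ^ (n + 1) ∣ s ^ q * g - cst U c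
  van : Van U (s - 1)

section Root

variable {n q : ℕ} {c : R} {U : X.left.Opens} {g : Γ(X.left, U)}

theorem Root.res {s : Γ(X.left, U)} (h : Root (ϖ := ϖ) n q c U g s) {V : X.left.Opens} (hVU : V ≤ U) :
    Root (ϖ := ϖ) n q c V (ro hVU g) (ro hVU s) := by
  refine ⟨?_, ?_⟩
  · have h1 := map_dvd (X.left.presheaf.map (homOfLE hVU).op).hom h.dvd
    simp only [map_pow, map_sub, map_mul] at h1
    change ro hVU (cst U ϖ) ^ (n + 1) ∣ ro hVU s ^ q * ro hVU g - ro hVU (cst U c) at h1
    rwa [ro_cst, ro_cst] at h1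
  · have h1 := h.van.res hVU
    rwa [show ro hVU (s - 1) = ro hVU s - 1 from (map_sub (X.left.presheaf.map (homOfLE hVU).op).hom s 1).trans
      (congrArg _ (map_one _))] at h1

variable (hq : IsUnit (q : R)) (hU : IsAffineOpen U) (hg : IsUnit g) (hgc : Van U (g - cst U c))

include hϖ hq hU hg hgc in
theorem root_data :
    IsNilpotent (Polynomial.aeval (1 : Γ(X.left, U) ⧸ Ideal.span {cst U ϖ ^ (n + 1)})
        (Polynomial.C (Ideal.Quotient.mk (Ideal.span {cst U ϖ ^ (n + 1)}) g) * Polynomial.X ^ q -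
          Polynomial.C (Ideal.Quotient.mk (Ideal.span {cst U ϖ ^ (n + 1)}) (cst U c)))) ∧
      IsUnit (Polynomial.aeval (1 : Γ(X.left, U) ⧸ Ideal.span {cst U ϖ ^ (n + 1)})
        (Polynomial.derivative
        (Polynomial.C (Ideal.Quotient.mk (Ideal.span {cst U ϖ ^ (n + 1)}) g) * Polynomial.X ^ q -
          Polynomial.C (Ideal.Quotient.mk (Ideal.span {cst U ϖ ^ (n + 1)}) (cst U c))))) := by
  constructor
  · simpa [map_sub] using hgc.isNilpotent hϖ hU n
  · have h1 : IsUnit (q : Γ(X.left, U) ⧸ Ideal.span {cst U ϖ ^ (n + 1)}) := by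
      simpa using (hq.map (cst U)).map (Ideal.Quotient.mk (Ideal.span {cst U ϖ ^ (n + 1)}))
    simpa [Polynomial.derivative_X_pow] using (hg.map (Ideal.Quotient.mk _)).mul h1

include hϖ hq hU hg hgc in
theorem exists_root_approx : ∃ s, Root (ϖ := ϖ) n q c U g s := by
  obtain ⟨h1, h2⟩ := root_data (n := n) hϖ hq hU hg hgc
  obtain ⟨r, ⟨hr1, hr2⟩, -⟩ := Polynomial.existsUnique_nilpotent_sub_and_aeval_eq_zero h1 h2
  obtain ⟨s, rfl⟩ := Ideal.Quotient.mk_surjective r
  refine ⟨s, ?_, van_of_isNilpotent hϖ (n := n) ?_⟩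
  · rw [← Ideal.mem_span_singleton, ← Ideal.Quotient.eq_zero_iff_mem, mul_comm]
    simpa using hr2
  · rw [map_sub, map_one, ← neg_sub]
    exact hr1.neg

include hϖ hq hU hg hgc in
theorem Root.unique {s s' : Γ(X.left, U)} (hs : Root (ϖ := ϖ) n q c U g s) (hs' : Root (ϖ := ϖ) n q c U g s') :
    cst U ϖ ^ (n + 1) ∣ s - s' := by
  obtain ⟨h1, h2⟩ := root_data (n := n) hϖ hq hU hg hgc
  rw [← Ideal.mem_span_singleton, ← Ideal.Quotient.eq_zero_iff_mem, map_sub, sub_eq_zero]
  have key : ∀ t : Γ(X.left, U), Root (ϖ := ϖ) n q c U g t →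
      IsNilpotent (1 - Ideal.Quotient.mk (Ideal.span {cst U ϖ ^ (n + 1)}) t) ∧
      Polynomial.aeval (Ideal.Quotient.mk (Ideal.span {cst U ϖ ^ (n + 1)}) t)
        (Polynomial.C (Ideal.Quotient.mk (Ideal.span {cst U ϖ ^ (n + 1)}) g) * Polynomial.X ^ q -
          Polynomial.C (Ideal.Quotient.mk (Ideal.span {cst U ϖ ^ (n + 1)}) (cst U c))) = 0 := fun t ht => by
    refine ⟨?_, ?_⟩
    · rw [← neg_sub, ← map_one (Ideal.Quotient.mk (Ideal.span {cst U ϖ ^ (n + 1)})), ← map_sub]
      exact (ht.van.isNilpotent hϖ hU n).neg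
    · have h3 := ht.dvd
      rw [← Ideal.mem_span_singleton, ← Ideal.Quotient.eq_zero_iff_mem, mul_comm] at h3
      simpa using h3
  exact (Polynomial.existsUnique_nilpotent_sub_and_aeval_eq_zero h1 h2).unique (key s hs) (key s' hs')

end Root

variable (hn : Pi1.IsNormalScheme X.left) (y : Γ((Models.specialFibreIdeal R X).subscheme, ⊤))

include hϖ hn in
theorem compat {n a q : ℕ} {c : R} (hq : IsUnit (q : R)) (haq : a < q) {U : X.left.Opens} (hU : IsAffineOpen U)
    {f g s f' g' s' : Γ(X.left, U)} (hf : Lift y U f) (hf' : Lift y U f') (e : f ^ q = cst U ϖ ^ a * g)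
    (e' : f' ^ q = cst U ϖ ^ a * g') (hg : IsUnit g) (hgc : Van U (g - cst U c))
    (hs : Root (ϖ := ϖ) n q c U g s) (hs' : Root (ϖ := ϖ) n q c U g' s') :
    cst U ϖ ^ (n + 1) ∣ f' * s' - f * s := by
  by_cases hne : Nonempty U
  swap
  · have : U = ⊥ := Opens.ext (Set.eq_empty_iff_forall_notMem.2 fun z hz => hne ⟨⟨z, hz⟩⟩)
    subst this
    exact ⟨0, Subsingleton.elim _ _⟩
  haveI := hne
  haveI : Nonempty (U : Scheme.{u}) := hne
  haveI : IsDomain Γ(X.left, U) := IsIntegral.component_integral U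
  haveI := Groth.L19.NormalSec.isIntegrallyClosed_sections (fun x => (hn x).2) U
  let b := cst U ϖ
  have hb : b ≠ 0 := cst_ne_zero U ‹_› hϖ.ne_zero
  obtain ⟨h, hh⟩ := Lift.dvd_sub (y := y) (ϖ := ϖ) hϖ (hU := hU) (hf := hf) (hf' := hf')
  obtain ⟨gi, hgi⟩ := hg.exists_right_inv
  have hbq : b ^ q = b ^ a * b ^ (q - a) := by rw [← pow_add]; congr 1; omega
  obtain ⟨z, hz⟩ : f ∣ b * h := by
    rw [← IsIntegrallyClosed.pow_dvd_pow_iff (n := q) (by omega)]
    refine ⟨gi * b ^ (q - a) * h ^ q, ?_⟩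
    rw [e, mul_pow, hbq]
    linear_combination (-(b ^ a * b ^ (q - a) * h ^ q)) * hgi
  have hzq : g * z ^ q = b ^ (q - a) * h ^ q := by
    refine mul_left_cancel₀ (pow_ne_zero a hb) ?_
    rw [← mul_assoc, ← mul_assoc, ← hbq, ← e, ← mul_pow, ← mul_pow, hz]
  have hzv : Van U z := by
    intro x hxF hxU hu
    have h1 : IsUnit (X.left.presheaf.germ U x hxU (g * z ^ q)) := by
      rw [map_mul, map_pow]; exact (hg.map _).mul (hu.pow q)
    rw [hzq, map_mul, map_pow] at h1
    exact cst_germ_mem hϖ hxF hxU (isUnit_of_dvd_unit (dvd_pow_self _ (by omega)) (IsUnit.mul_iff.1 h1).1)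
  have hf'' : f' = f * (1 + z) := by rw [mul_add, mul_one, ← hz, ← hh]; ring
  have hg'' : g' = g * (1 + z) ^ q := by
    refine mul_left_cancel₀ (pow_ne_zero a hb) ?_
    rw [← e', ← mul_assoc, ← e, hf'', mul_pow]
  have hroot : Root (ϖ := ϖ) n q c U g ((1 + z) * s') := by
    refine ⟨?_, fun x hxF hxU => ?_⟩
    · have h1 := hs'.dvd
      rwa [show ((1 + z) * s') ^ q * g = s' ^ q * g' by rw [hg'', mul_pow]; ring]
    · rw [show (1 + z) * s' - 1 = z * s' + (s' - 1) by ring, map_add, map_mul]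
      exact add_mem (Ideal.mul_mem_right _ _ (hzv x hxF hxU)) (hs'.van x hxF hxU)
  have h2 := Dvd.dvd.mul_left (hroot.unique hϖ hq hU hg hgc hs) f
  rwa [hf'', show f * (1 + z) * s' - f * s = f * ((1 + z) * s' - s) by ring]

include hϖ hn hT in
/-- In residue characteristic zero, no function has a slope. -/
theorem not_sloped_of_charZero [CharZero (IsLocalRing.ResidueField R)]
    {a q : ℕ} {η₀ : X.left} (hs : Sloped (ϖ := ϖ) y a q η₀) : False := by
  classical
  have haq := hs.lt
  have ha := hs.pos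
  have hq : IsUnit (q : R) := by
    refine (IsLocalRing.residue_ne_zero_iff_isUnit _).1 ?_
    rw [map_natCast]
    exact_mod_cast (show q ≠ 0 by omega)
  obtain ⟨v, hv0, hv⟩ := exists_unit_part hϖ hn hT y hs
  haveI : PerfectField (IsLocalRing.ResidueField R) := inferInstance
  obtain ⟨c, hc⟩ := red_const_of_perfect hϖ hT ⟨η₀, hs.gen.1⟩ v
  have hgc : ∀ (U : X.left.Opens), IsAffineOpen U → ∀ f g, Lift y U f → f ^ q = cst U ϖ ^ a * g →
      Van U (g - cst U c) := fun U hU f g hf e => van_of_app_red (by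
    rw [map_sub, (hv U hU f g hf e).1, hc, toGlobal_red, sub_self])
  -- a covering on which the unit part is a unit
  have hcov : ∀ x : X.left, ∃ (U : X.left.Opens) (_ : IsAffineOpen U) (_ : x ∈ U) (f g : Γ(X.left, U)),
      Lift y U f ∧ f ^ q = cst U ϖ ^ a * g ∧ IsUnit g := by
    intro x
    by_cases hxF : x ∈ Models.specialFibreSet R X
    · obtain ⟨U, hU, hxU, -⟩ := exists_isAffineOpen_mem_and_subset (x := x) (U := (⊤ : X.left.Opens)) trivial
      obtain ⟨f, hf⟩ := exists_lift y hU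
      obtain ⟨g, hg⟩ := hs.dvd U hU f hf
      refine ⟨X.left.basicOpen g, hU.basicOpen g, (hv U hU f g hf hg).2 x hxF hxU,
        ro (X.left.basicOpen_le g) f, ro (X.left.basicOpen_le g) g, hf.res y _, ?_, ?_⟩
      · rw [← ro_cst (X.left.basicOpen_le g), ← map_pow, hg, map_mul, map_pow]
      · exact RingedSpace.isUnit_res_basicOpen X.left.toRingedSpace g
    · have hxb : x ∈ X.left.basicOpen (cst ⊤ ϖ) :=
        not_not.1 fun h => hxF ((mem_F_iff hϖ (U := ⊤) trivial).2 h)
      obtain ⟨U, hU, hxU, hle⟩ := exists_isAffineOpen_mem_and_subset (x := x) hxb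
      have hb : IsUnit (cst U ϖ) := by
        have h1 := (RingedSpace.isUnit_res_basicOpen X.left.toRingedSpace (cst ⊤ ϖ)).map
          (X.left.presheaf.map (homOfLE (fun z hz => hle hz : U ≤ X.left.basicOpen (cst ⊤ ϖ))).op).hom
        convert h1 using 1
        exact ((ro_cst (le_top : U ≤ ⊤) ϖ).symm.trans (ro_ro _ _ _).symm)
      obtain ⟨f₀, hf₀⟩ := exists_lift y hU
      refine ⟨U, hU, hxU, cst U ϖ, cst U ϖ ^ (q - a), ?_, ?_, hb.pow _⟩
      · show (Models.specialFibreIdeal R X).subschemeι.app U (cst U ϖ) = _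
        rw [← hf₀, ← sub_eq_zero, ← map_sub]
        exact (app_eq_zero_iff hϖ hU _).2 hb.dvd
      · rw [← pow_add]; congr 1; omega
  choose U hU hxU f g hf he hg using hcov
  have hrt : ∀ (n : ℕ) (x : X.left), ∃ s, Root (ϖ := ϖ) n q c (U x) (g x) s := fun n x =>
    exists_root_approx hϖ hq (hU x) (hg x) (hgc _ (hU x) _ _ (hf x) (he x))
  choose s hs' using hrt
  -- gluing on the thickenings
  have hG : ∀ n : ℕ, ∃ G : Γ((Models.specialFibreIdeal R X ^ (n + 1)).subscheme, ⊤), ∀ x,
      ro (le_top : (Models.specialFibreIdeal R X ^ (n + 1)).subschemeι ⁻¹ᵁ U x ≤ ⊤) G =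
        (Models.specialFibreIdeal R X ^ (n + 1)).subschemeι.app (U x) (f x * s n x) := fun n => by
    refine exists_glue _ U (fun x => ⟨x, hxU x⟩) _ fun i j V hi hj hV => ?_
    rw [← app_ro _ hi, ← app_ro _ hj]
    refine (sub_eq_zero.1 ?_).symm
    rw [← map_sub]
    show (Models.specialFibreIdeal R X ^ (n + 1)).subschemeι.app (⟨V, hV⟩ : X.left.affineOpens).1 _ = 0
    rw [← RingHom.mem_ker, (Models.specialFibreIdeal R X ^ (n + 1)).ker_subschemeι_app,
      Groth.L05.CohFlat.ideal_pow_specialFibreIdeal hϖ, Ideal.mem_span_singleton]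
    show cst V (ϖ ^ (n + 1)) ∣ (X.left.presheaf.map (homOfLE hj).op).hom (f j * s n j) -
      (X.left.presheaf.map (homOfLE hi).op).hom (f i * s n i)
    rw [map_pow, map_mul, map_mul]
    have ei : ro hi (f i) ^ q = cst V ϖ ^ a * ro hi (g i) := by
      rw [← ro_cst hi, ← map_pow, he i, map_mul, map_pow]
    have ej : ro hj (f j) ^ q = cst V ϖ ^ a * ro hj (g j) := by
      rw [← ro_cst hj, ← map_pow, he j, map_mul, map_pow]
    exact compat hϖ hn y hq haq hV ((hf i).res y hi) ((hf j).res y hj) ei ej ((hg i).map _)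
      (hgc V hV _ _ ((hf i).res y hi) ei) ((hs' n i).res hi) ((hs' n j).res hj)
  choose G hG using hG
  let y₁ : Γ((Models.specialFibreIdeal R X).subscheme, ⊤) :=
    (Scheme.IdealSheafData.inclusion (Groth.L05.CohFlat.specialFibre_pow_le hϖ 0)).appTop (G 0)
  have hval : ∀ n x, ro (le_top : (Models.specialFibreIdeal R X).subschemeι ⁻¹ᵁ U x ≤ ⊤)
      ((Scheme.IdealSheafData.inclusion (Groth.L05.CohFlat.specialFibre_pow_le hϖ n)).appTop (G n)) =
      (Models.specialFibreIdeal R X).subschemeι.app (U x) (f x * s n x) := fun n x =>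
    Groth.L05.CohFlat.app_of_comp _ _ _
      (Scheme.IdealSheafData.inclusion_subschemeι (Groth.L05.CohFlat.specialFibre_pow_le hϖ n)) (G n) (U x) _
      (hG n x)
  obtain ⟨r, hr⟩ := const_of_range hT y₁ (Groth.L05.CohFlat.mem_range_of_lifts hϖ _ fun n => ⟨G n, by
    rw [AddEquiv.apply_symm_apply]
    refine ext_of_cover (Models.specialFibreIdeal R X).subschemeι U (fun x => ⟨x, hxU x⟩) _ y₁ fun x => ?_
    rw [hval n x, hval 0 x, ← sub_eq_zero, ← map_sub]
    refine (app_eq_zero_iff hϖ (hU x) _).2 ?_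
    have h1 : Root (ϖ := ϖ) 0 q c (U x) (g x) (s n x) :=
      ⟨(pow_dvd_pow _ (by omega)).trans (hs' n x).dvd, (hs' n x).van⟩
    have h2 := h1.unique hϖ hq (hU x) (hg x) (hgc _ (hU x) _ _ (hf x) (he x)) (hs' 0 x)
    rw [zero_add, pow_one] at h2
    rw [← mul_sub]
    exact h2.mul_left _⟩)
  -- the value at the chosen point
  obtain ⟨_, hdv⟩ := dvr_stalk hϖ hn hs.gen
  haveI := hdv
  let O := X.left.presheaf.stalk η₀
  let γ := (X.left.presheaf.germ (U η₀) η₀ (hxU η₀)).hom
  obtain ⟨hin, hout⟩ := hs.exact (U η₀) (hxU η₀) (hU η₀) (f η₀) (hf η₀)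
  have hsu : IsUnit (γ (s 0 η₀)) := by
    have h1 := (hs' 0 η₀).van η₀ hs.gen.1 (hxU η₀)
    rw [map_sub, map_one] at h1
    by_contra h2
    exact IsLocalRing.maximalIdeal.isMaximal O |>.ne_top ((Ideal.eq_top_iff_one _).2
      (by
        have h3 := sub_mem (show γ (s 0 η₀) ∈ IsLocalRing.maximalIdeal O from h2)
          (show γ (s 0 η₀) - 1 ∈ IsLocalRing.maximalIdeal O from h1)
        rwa [sub_sub_cancel] at h3))
  have hd : γ (f η₀ * s 0 η₀) - γ (cst (U η₀) r) ∈ IsLocalRing.maximalIdeal O ^ q := by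
    rw [← hs.mult (U η₀) (hxU η₀), Ideal.mem_span_singleton, ← map_sub]
    refine map_dvd _ ((app_eq_zero_iff hϖ (hU η₀) _).1 ?_)
    rw [map_sub, ← hval 0 η₀, ← gI_ro, ← hr, sub_self]
  have hrm : γ (cst (U η₀) r) ∈ IsLocalRing.maximalIdeal O ^ q ∨ IsUnit (γ (cst (U η₀) r)) := by
    by_cases hru : IsUnit r
    · exact Or.inr ((isUnit_cst _ hru).map _)
    · left
      have h1 : r ∈ IsLocalRing.maximalIdeal R := hru
      rw [hϖ.maximalIdeal_eq, Ideal.mem_span_singleton] at h1
      rw [← hs.mult (U η₀) (hxU η₀), Ideal.mem_span_singleton]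
      exact map_dvd _ (map_dvd (cst (U η₀)) h1)
  rcases hrm with hrm | hrm
  · refine hout (Ideal.pow_le_pow_right haq ?_)
    have h1 := add_mem hd hrm
    rw [sub_add_cancel, map_mul] at h1
    exact (Ideal.mul_unit_mem_iff_mem _ hsu).1 h1
  · have h1 : γ (f η₀ * s 0 η₀) ∈ IsLocalRing.maximalIdeal O := by
      rw [map_mul]; exact Ideal.mul_mem_right _ _ (Ideal.pow_le_self (by omega) hin)
    have h2 := sub_mem h1 (Ideal.pow_le_self (by omega) hd)
    rw [sub_sub_cancel] at h2
    exact h2 hrm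

include hϖ hn hT in
/-- Functions on the closed fibre extend, given a section or residue characteristic zero. -/
theorem surjective_restrict
    (h : CharZero (IsLocalRing.ResidueField R) ∨
      ∃ σ : Spec (CommRingCat.of R) ⟶ X.left, σ ≫ X.hom = 𝟙 (Spec (CommRingCat.of R))) :
    Function.Surjective (hmap (ClSub.toSubscheme (Models.specialFibreIdeal R X)) 0) := by
  intro z
  let y := Groth.L21.RR.e0 (ClSub.quotMod (Models.specialFibreIdeal R X)) z
  let y' : Γ((Models.specialFibreIdeal R X).subscheme, ⊤) := y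
  suffices hy : ∃ r, y' = gI X r by
    obtain ⟨r, hr⟩ := hy
    refine ⟨(Groth.L21.RR.e0 (Coh.structureModule X.left)).symm (Coh.toGlobal X.hom r), ?_⟩
    refine (Groth.L21.RR.e0 (ClSub.quotMod (Models.specialFibreIdeal R X))).injective ?_
    rw [Groth.L21.RR.e0_hmap, AddEquiv.apply_symm_apply]
    exact hr.symm
  obtain ⟨r, hr⟩ : ∃ r : R, (red (X := X)).appTop y' =
      Coh.toGlobal ((Models.redFibreIdeal R X).subschemeι ≫ X.hom) r := by
    by_cases hne : (Models.specialFibreSet R X).Nonempty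
    · rcases h with h0 | ⟨σ, hσ⟩
      · haveI := h0
        exact red_const_of_perfect hϖ hT hne _
      · exact red_const_of_section hϖ hT σ hσ _
    · refine ⟨0, ?_⟩
      haveI : IsEmpty ↥(Models.redFibreIdeal R X).subscheme := ⟨fun w => hne ⟨_, mem_fibre w⟩⟩
      exact ext_of_cover (Models.redFibreIdeal R X).subschemeι (fun _ : PUnit.{u + 1} => (⊤ : X.left.Opens))
        (fun _ => ⟨⟨⟩, trivial⟩) _ _ fun _ => by
          haveI : IsEmpty ↥((Models.redFibreIdeal R X).subschemeι ⁻¹ᵁ (⊤ : X.left.Opens)) :=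
            ⟨fun w => isEmptyElim w.1⟩
          exact Subsingleton.elim _ _
  refine ⟨r, sub_eq_zero.1 (by_contra fun hy0 => ?_)⟩
  obtain ⟨a, q, η₀, hs⟩ := exists_sloped hϖ hn (y' - gI X r)
    (eq_bot_of_red (by rw [map_sub, hr, red_gI, sub_self])) hy0
  rcases h with h0 | ⟨σ, hσ⟩
  · haveI := h0
    exact not_sloped_of_charZero hϖ hT hn _ hs
  · exact not_sloped_of_section hϖ hn hT _ σ hσ hs

end Groth.L05.Slope
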